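import Groth.Agent.CurvesB.RankOne
import Groth.Agent.CurvesB.RankOneMono
import Groth.Agent.Ega1.QCohLoc
import Groth.Agent.CycB.StalkExact

/-!
# Torsion-free modules of rank at most one on an integral scheme

`Rk1 F`: sections of `F` are determined by their restriction to any nonempty open, and any two sections become
proportional on a nonempty open.
-/

set_option autoImplicit false

universe u

open CategoryTheory CategoryTheory.Limits AlgebraicGeometry TopologicalSpace Opposite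

namespace Groth.Agent.K315.RkOne

open Groth.Agent.Ega1.QCohLoc
open Groth.Agent.CurvesB.RankOne (inf_nonempty IsTors)

variable {X : Scheme.{u}}

/-- Sections are determined on any nonempty open. -/
def TF (F : X.Modules) : Prop :=
  ∀ ⦃U V : X.Opens⦄ (h : V ≤ U), (V : Set X).Nonempty → ∀ m : Γ(F, U), res F h m = 0 → m = 0

/-- Any section is generically a multiple of a given nonzero section. -/
def Prp (F : X.Modules) : Prop :=
  ∀ ⦃U : X.Opens⦄, (U : Set X).Nonempty → ∀ m : Γ(F, U), m ≠ 0 → ∀ t : Γ(F, U),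
    ∃ (V : X.Opens) (hV : V ≤ U), (V : Set X).Nonempty ∧ ∃ a : Γ(X, V), res F hV t = a • res F hV m

/-- Torsion-free of rank at most one. -/
def Rk1 (F : X.Modules) : Prop := TF F ∧ Prp F

theorem app_injective_of_mono {F G : X.Modules} (φ : F ⟶ G) [Mono φ] (U : X.Opens) :
    Function.Injective (φ.app U) := Groth.Agent.CohqB.QC4.app_injective_of_mono φ U

theorem TF.of_mono {F G : X.Modules} (φ : F ⟶ G) [Mono φ] (h : TF G) : TF F := by
  intro U V hV hne m hm
  apply app_injective_of_mono φ U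
  rw [map_zero]
  refine h hV hne _ ?_
  rw [← res_app, hm, map_zero]

theorem Prp.of_mono {F G : X.Modules} (φ : F ⟶ G) [Mono φ] (h : Prp G) : Prp F := by
  intro U hU m hm t
  have hm' : φ.app U m ≠ 0 := fun h0 => hm (app_injective_of_mono φ U (h0.trans (map_zero _).symm))
  obtain ⟨V, hV, hVn, a, ha⟩ := h hU _ hm' (φ.app U t)
  refine ⟨V, hV, hVn, a, ?_⟩
  apply app_injective_of_mono φ V
  rw [res_app, ha, Scheme.Modules.Hom.app_smul, res_app]

theorem Rk1.of_mono {F G : X.Modules} (φ : F ⟶ G) [Mono φ] (h : Rk1 G) : Rk1 F :=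
  ⟨h.1.of_mono φ, h.2.of_mono φ⟩

section Integral

variable [IsIntegral X]

/-- A nonzero map from a torsion-free rank one module to a torsion-free one is injective. -/
theorem mono_of_ne_zero {G F : X.Modules} (hG : Rk1 G) (hF : TF F) (φ : G ⟶ F) (hφ : φ ≠ 0) : Mono φ := by
  have key : ∀ U : X.Opens, Function.Injective (φ.app U) := by
    intro U
    rw [injective_iff_map_eq_zero]
    intro m hm
    by_contra hm0
    apply hφ
    ext U₀ (t : Γ(G, U₀))
    change φ.app U₀ t = 0
    by_contra ht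
    have hU : (U : Set X).Nonempty := CurvesB.RankOneMono.nonempty_of_ne_zero hm0
    have hU₀ : (U₀ : Set X).Nonempty := CurvesB.RankOneMono.nonempty_of_ne_zero ht
    have hW : ((U ⊓ U₀ : X.Opens) : Set X).Nonempty := inf_nonempty hU hU₀
    have hmW : res G (inf_le_left : U ⊓ U₀ ≤ U) m ≠ 0 := fun h => hm0 (hG.1 inf_le_left hW m h)
    obtain ⟨V, hV, hVn, a, ha⟩ := hG.2 hW _ hmW (res G (inf_le_right : U ⊓ U₀ ≤ U₀) t)
    refine ht (hF (hV.trans inf_le_right) hVn _ ?_)
    rw [res_res, res_res] at ha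
    rw [← res_app, ha, Scheme.Modules.Hom.app_smul, res_app, hm, map_zero, smul_zero]
  apply (Scheme.Modules.toPresheaf X).mono_of_mono_map
  rw [NatTrans.mono_iff_mono_app]
  intro U
  rw [AddCommGrpCat.mono_iff_injective]
  exact key U.unop

/-- A quotient of a torsion-free module of rank one by the image of a nonzero map is torsion. -/
theorem isTors_of_epi {G F T : X.Modules} (hF : Rk1 F) (φ : G ⟶ F) (hφ : φ ≠ 0) (q : F ⟶ T)
    [Epi q] (hq : φ ≫ q = 0) : IsTors T := by
  intro U t hU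
  obtain ⟨U₀, g, hg⟩ : ∃ (U₀ : X.Opens) (g : Γ(G, U₀)), φ.app U₀ g ≠ 0 := by
    by_contra h
    push Not at h
    apply hφ
    ext U₀ g
    exact h U₀ g
  have hU₀ : (U₀ : Set X).Nonempty := CurvesB.RankOneMono.nonempty_of_ne_zero hg
  obtain ⟨x, hx⟩ := hU
  obtain ⟨V, hV, t', hxV, ht'⟩ := Groth.Agent.CohqB.QCSheaf.exists_local_lift q t x hx
  have hW : ((V ⊓ U₀ : X.Opens) : Set X).Nonempty := inf_nonempty ⟨x, hxV⟩ hU₀
  have hgW : φ.app (V ⊓ U₀) (res G inf_le_right g) ≠ 0 := by
    intro h0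
    rw [res_app] at h0
    exact hg (hF.1 _ hW _ h0)
  obtain ⟨W, hWV, hWn, a, ha⟩ := hF.2 hW _ hgW (res F inf_le_left t')
  refine ⟨W, hWV.trans (inf_le_left.trans hV), hWn, ?_⟩
  have h1 : res T (hWV.trans (inf_le_left.trans hV)) t = q.app W (res F (hWV.trans inf_le_left) t') := by
    rw [res_app]
    have h2 : q.app V t' = res T hV t := ht'
    rw [h2, res_res]
  change res T (hWV.trans (inf_le_left.trans hV)) t = 0
  rw [res_res] at ha
  rw [h1, ha, ← res_app, Scheme.Modules.Hom.app_smul]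
  have h3 : q.app W (φ.app W (res G hWV (res G inf_le_right g))) =
    (φ ≫ q).app W (res G hWV (res G inf_le_right g)) := rfl
  rw [h3, hq]
  change a • (0 : Γ(T, W)) = 0
  rw [smul_zero]

/-- germs of functions at points of an integral scheme are injective. -/
theorem germ_ne_zero {U : X.Opens} {x : X} (hx : x ∈ U) {a : Γ(X, U)} (ha : a ≠ 0) :
    X.presheaf.germ U x hx a ≠ 0 := by
  intro h
  apply ha
  exact germ_injective_of_isIntegral X x hx (h.trans (map_zero _).symm)

/-- A quasi-coherent module which is torsion-free on stalks is torsion-free. -/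
theorem tf_of_stalk {F : X.Modules} (hq : Coh.IsQCoh F)
    (htf : ∀ (x : X) (a : X.presheaf.stalk x) (m : F.presheaf.stalk x), a • m = 0 → a = 0 ∨ m = 0) : TF F := by
  intro U V hV hVn m hm
  refine Groth.Agent.Ega2.Tens.eq_of_locally_eq F m 0 fun x hx => ?_
  obtain ⟨W, hWaff, hxW, hWU⟩ := exists_isAffineOpen_mem_and_subset hx
  have hWU' : W ≤ U := hWU
  obtain ⟨y, hyW, hyV⟩ : ((W ⊓ V : X.Opens) : Set X).Nonempty := inf_nonempty ⟨x, hxW⟩ hVn
  obtain ⟨f, hf, hyf⟩ := hWaff.exists_basicOpen_le ⟨y, hyV⟩ hyW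
  obtain ⟨n, hn⟩ := (isLocAt_of_isQCoh hq hWaff f).inj (res F hWU' m) (by
    have h1 : res F (X.basicOpen_le f) (res F hWU' m) = res F hf (res F hV m) := by
      rw [res_res, res_res]
    rw [h1, hm, map_zero])
  have hf0 : f ≠ 0 := by
    rintro rfl
    simp at hyf
  have : Nonempty W := ⟨⟨x, hxW⟩⟩
  have hfn : f ^ n ≠ 0 := pow_ne_zero n hf0
  have hmW : res F hWU' m = 0 := by
    refine TopCat.Presheaf.section_ext ⟨_, F.isSheaf⟩ W _ _ fun z hz => ?_
    have h2 : F.presheaf.germ W z hz (f ^ n • res F hWU' m) = 0 := by rw [hn, map_zero]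
    rw [CycB.StalkExact.germ_smul] at h2
    rcases htf z _ _ h2 with h3 | h3
    · exact absurd h3 (germ_ne_zero hz hfn)
    · change F.presheaf.germ W z hz (res F hWU' m) = F.presheaf.germ W z hz 0
      rw [h3, map_zero]
  refine ⟨W, homOfLE hWU', hxW, ?_⟩
  rw [map_zero]
  exact hmW

/-- A torsion-free module whose generic stalk is generated by one element is of rank at most one. -/
theorem prp_of_stalk {F : X.Modules} (hTF : TF F) (e : F.presheaf.stalk (genericPoint X))
    (he : ∀ m : F.presheaf.stalk (genericPoint X), ∃ a : X.presheaf.stalk (genericPoint X), m = a • e) :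
    Prp F := by
  intro U hU m hm t
  have hη : genericPoint X ∈ U := by
    obtain ⟨x, hx⟩ := hU
    exact (genericPoint_specializes x).mem_open U.isOpen hx
  have hm' : F.presheaf.germ U _ hη m ≠ 0 := by
    intro h0
    obtain ⟨V, hηV, i₁, i₂, h⟩ := F.presheaf.germ_eq (genericPoint X) hη hη m 0 (h0.trans (map_zero _).symm)
    apply hm
    refine hTF i₁.le ⟨_, hηV⟩ m ?_
    exact h.trans (map_zero _)
  obtain ⟨a, ha⟩ := he (F.presheaf.germ U _ hη m)
  obtain ⟨b, hb⟩ := he (F.presheaf.germ U _ hη t)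
  have ha0 : a ≠ 0 := by
    rintro rfl
    exact hm' (ha.trans (zero_smul _ _))
  have hfield : IsField (X.presheaf.stalk (genericPoint X)) := by
    exact Field.toIsField X.functionField
  obtain ⟨a', haa'⟩ := hfield.mul_inv_cancel ha0
  have hc : F.presheaf.germ U _ hη t = (b * a') • F.presheaf.germ U _ hη m := by
    rw [ha, hb, smul_smul, mul_assoc, mul_comm a' a, haa', mul_one]
  obtain ⟨V, hηV, c, hcV⟩ := X.presheaf.exists_germ_eq (b * a')
  have hηW : genericPoint X ∈ U ⊓ V := ⟨hη, hηV⟩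
  have h1 : F.presheaf.germ (U ⊓ V) _ hηW (res F inf_le_left t) =
      F.presheaf.germ (U ⊓ V) _ hηW ((resO (inf_le_right : U ⊓ V ≤ V) c : Γ(X, U ⊓ V)) •
        res F (inf_le_left : U ⊓ V ≤ U) m) := by
    rw [CycB.StalkExact.germ_smul]
    have e1 : F.presheaf.germ (U ⊓ V) _ hηW (res F inf_le_left t) = F.presheaf.germ U _ hη t :=
      F.presheaf.germ_res_apply (homOfLE inf_le_left) _ _ t
    have e2 : F.presheaf.germ (U ⊓ V) _ hηW (res F inf_le_left m) = F.presheaf.germ U _ hη m :=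
      F.presheaf.germ_res_apply (homOfLE inf_le_left) _ _ m
    have e3 : X.presheaf.germ (U ⊓ V) _ hηW (resO inf_le_right c) = X.presheaf.germ V _ hηV c :=
      X.presheaf.germ_res_apply (homOfLE inf_le_right) _ _ c
    rw [e1, e2, e3, hcV, hc]
  obtain ⟨W, hηW, i₁, i₂, h⟩ := F.presheaf.germ_eq (genericPoint X) _ _ _ _ h1
  have h' : res F i₁.le (res F (inf_le_left : U ⊓ V ≤ U) t) =
      res F i₁.le ((resO (inf_le_right : U ⊓ V ≤ V) c : Γ(X, U ⊓ V)) • res F (inf_le_left : U ⊓ V ≤ U) m) := h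
  refine ⟨W, i₁.le.trans inf_le_left, ⟨_, hηW⟩, resO (i₁.le.trans inf_le_right) c, ?_⟩
  rw [res_smul, res_res, res_res, resO_resO] at h'
  exact h'

/-- Transfer of `Prp` along a monomorphism with torsion cokernel. -/
theorem prp_of_tors {w F Q : X.Modules} (hF : TF F) (hw : Prp w) (f : w ⟶ F) (g : F ⟶ Q)
    (hfg : ∀ (U : X.Opens) (m : Γ(F, U)), g.app U m = 0 → ∃ m' : Γ(w, U), f.app U m' = m)
    (hQ : IsTors Q) : Prp F := by
  intro U hU m hm t
  obtain ⟨V₁, hV₁, hV₁n, h₁⟩ := hQ U (g.app U m) hU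
  obtain ⟨V₂, hV₂, hV₂n, h₂⟩ := hQ U (g.app U t) hU
  have h₁' : res Q hV₁ (g.app U m) = 0 := h₁
  have h₂' : res Q hV₂ (g.app U t) = 0 := h₂
  have hV : ((V₁ ⊓ V₂ : X.Opens) : Set X).Nonempty := inf_nonempty hV₁n hV₂n
  have hVU : V₁ ⊓ V₂ ≤ U := inf_le_left.trans hV₁
  obtain ⟨m', hm'⟩ := hfg (V₁ ⊓ V₂) (res F hVU m) (by
    rw [res_app]
    have : res Q hVU (g.app U m) = res Q inf_le_left (res Q hV₁ (g.app U m)) := (res_res _ _ _ _).symm
    rw [this, h₁', map_zero])
  obtain ⟨t', ht'⟩ := hfg (V₁ ⊓ V₂) (res F hVU t) (by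
    rw [res_app]
    have : res Q hVU (g.app U t) = res Q inf_le_right (res Q hV₂ (g.app U t)) := (res_res _ _ _ _).symm
    rw [this, h₂', map_zero])
  have hm0 : m' ≠ 0 := by
    rintro rfl
    rw [map_zero] at hm'
    exact hm (hF hVU hV m hm'.symm)
  obtain ⟨W, hW, hWn, a, ha⟩ := hw hV m' hm0 t'
  refine ⟨W, hW.trans hVU, hWn, a, ?_⟩
  have e1 := congrArg (f.app W) ha
  rw [res_app, Scheme.Modules.Hom.app_smul, res_app, hm', ht', res_res, res_res] at e1
  exact e1

end Integral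

end Groth.Agent.K315.RkOne
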