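import Groth.Agent.CurvesC.DualEuler
import Groth.Agent.S1534

/-!
# Extensions of the dualizing module

* `subsingleton_or_retraction`: for `ω → F → Q → 0` exact with `H¹(Q) = 0`, either `H¹(F) = 0` or `ω → F` has a
  retraction.
-/

set_option autoImplicit false

universe u

open CategoryTheory CategoryTheory.Limits AlgebraicGeometry Pretriangulated TopologicalSpace

attribute [local instance] HasDerivedCategory.standard

namespace Groth.Agent.K315.DualExt

open Groth.Agent.CurvesC

section

variable {k : Type u} [Field k] {X : Scheme.{u}} [X.Over (Spec (CommRingCat.of k))]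

/-- `H¹(w) → H¹(F)` is onto for `w → F → Q → 0` exact and `H¹(Q) = 0`, on a curve. -/
theorem surjective_map [IsProper (X ↘ (Spec (CommRingCat.of k)))] (hdim : topologicalKrullDim X = 1)
    {w F Q : X.Modules} (f : w ⟶ F) (g : F ⟶ Q) [Epi g] (z : f ≫ g = 0)
    (hex : (ShortComplex.mk f g z).Exact) (hQ1 : Subsingleton (Coh.HH X Q 1)) :
    Function.Surjective (HV.map k f 1) := by
  let l : w ⟶ kernel g := kernel.lift g f z
  have hl : Epi l := by
    have := hex.epi_kernelLift
    exact this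
  have h1 : (ShortComplex.mk (kernel.ι g) g (kernel.condition g)).ShortExact :=
    { exact := ShortComplex.exact_of_f_is_kernel _ (kernelIsKernel g)
      mono_f := inferInstanceAs (Mono (kernel.ι g))
      epi_g := inferInstanceAs (Epi g) }
  have h2 : (ShortComplex.mk (kernel.ι l) l (kernel.condition l)).ShortExact :=
    { exact := ShortComplex.exact_of_f_is_kernel _ (kernelIsKernel l)
      mono_f := inferInstanceAs (Mono (kernel.ι l))
      epi_g := hl }
  intro y
  obtain ⟨y₁, hy₁⟩ := HV.exact₂ k h1 1 y (hQ1.elim _ _)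
  have hsub : Subsingleton (HV X (kernel l) 2) :=
    CurveCoh.subsingleton_H_ge_two k X hdim (kernel l) 2 (by norm_num)
  obtain ⟨y₂, hy₂⟩ := HV.exact₃ k h2 1 y₁ (hsub.elim _ _)
  refine ⟨y₂, ?_⟩
  have h3 : l ≫ kernel.ι g = f := kernel.lift_ι g f z
  rw [← h3, HV.map_comp_apply, ← hy₁]
  exact congrArg _ hy₂

theorem subsingleton_or_retraction [IsProper (X ↘ (Spec (CommRingCat.of k)))]
    (hdim : topologicalKrullDim X = 1) {w : X.Modules} {t : HV X w 1 →ₗ[k] k} (ht : IsDual w t)
    (hw : Coh.IsQCoh w) (h1w : Module.finrank k (HV X w 1) = 1) {F Q : X.Modules} (hF : Coh.IsQCoh F)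
    (f : w ⟶ F) (g : F ⟶ Q) [Epi g] (z : f ≫ g = 0)
    (hex : (ShortComplex.mk f g z).Exact) (hQ1 : Subsingleton (Coh.HH X Q 1)) :
    Subsingleton (HV X F 1) ∨ ∃ r : F ⟶ w, f ≫ r = 𝟙 w := by
  have hs := surjective_map (k := k) hdim f g z hex hQ1
  rcases subsingleton_or_nontrivial (HV X F 1) with hF1 | hF1
  · exact Or.inl hF1
  right
  have hfw : Module.Finite k (HV X w 1) := Module.finite_of_finrank_eq_succ h1w
  have hfF : Module.Finite k (HV X F 1) := Module.Finite.of_surjective _ hs
  have hle : Module.finrank k (HV X F 1) ≤ 1 :=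
    (LinearMap.finrank_le_finrank_of_surjective hs).trans h1w.le
  have hge : 0 < Module.finrank k (HV X F 1) := Module.finrank_pos
  have heq : Module.finrank k (HV X w 1) = Module.finrank k (HV X F 1) := by omega
  have hi : Function.Injective (HV.map k f 1) :=
    (LinearMap.injective_iff_surjective_of_finrank_eq_finrank heq).2 hs
  let e : HV X w 1 ≃ₗ[k] HV X F 1 := LinearEquiv.ofBijective _ ⟨hi, hs⟩
  obtain ⟨r, hr, -⟩ := ht F hF (t ∘ₗ e.symm.toLinearMap)
  refine ⟨r, (ht.bijective hw).1 ?_⟩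
  dsimp only
  rw [HV.map_comp, ← LinearMap.comp_assoc, hr, HV.map_id, LinearMap.comp_id]
  ext x
  change t (e.symm (e x)) = t x
  rw [e.symm_apply_apply]

end

/-- The facts on the dualizing module of a curve with `H⁰(O) = k`. -/
theorem facts (k : Type u) [Field k] (X : Scheme.{u}) [X.Over (Spec (CommRingCat.of k))]
    [IsProper (X ↘ (Spec (CommRingCat.of k)))] (hdim : topologicalKrullDim X = 1)
    (h0 : Module.finrank k (Coh.HH X (Coh.structureModule X) 0) = 1)
    [DCoh.HasRpush (X ↘ Spec (CommRingCat.of k))]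
    (h : DCoh.RpushPreservesQCoh (X ↘ Spec (CommRingCat.of k)))
    [DCoh.HasShriek (X ↘ Spec (CommRingCat.of k)) h]
    (OY : DCoh.DQCoh (Spec (CommRingCat.of k)))
    (hOY : Nonempty (OY.obj ≅ DCoh.inD (Spec (CommRingCat.of k))
      (Coh.structureModule (Spec (CommRingCat.of k))))) :
    ∃ t : HV X (DCoh.dualizingMod (X ↘ Spec (CommRingCat.of k)) h OY 1) 1 →ₗ[k] k,
      IsDual (DCoh.dualizingMod (X ↘ Spec (CommRingCat.of k)) h OY 1) t ∧
      Coh.IsQCoh (DCoh.dualizingMod (X ↘ Spec (CommRingCat.of k)) h OY 1) ∧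
      Module.finrank k (HV X (DCoh.dualizingMod (X ↘ Spec (CommRingCat.of k)) h OY 1) 1) = 1 := by
  have := CurveCoh.noetherianSpace k X
  obtain ⟨-, hCM, hcomp⟩ := Groth.Agent.S1534.result k X hdim h0
  obtain ⟨t, ht⟩ := DualRep.exists_isDual k X h OY hdim.le hOY
  refine ⟨t, ht, DualRep.isQCoh_dualizingMod k X h OY 1, ?_⟩
  rw [DualEuler.finrank_one k X h OY hOY hdim.le hCM hcomp]
  exact h0

end Groth.Agent.K315.DualExt
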