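import Groth.Agent.Curves.K315.DualExt
import Groth.Agent.Fga.PosZero
import Groth.Agent.CurvesC.HV0
import Groth.Agent.CohqB.QC6
import Groth.Agent.CohqB.QAffGen
import Groth.Agent.CohqB.DevSupport
import Groth.Agent.CycB.CohProp
import Groth.Agent.S1526
import Groth.Agent.S1527

/-!
# Global sections of an extension of the dualizing module

`epi_ev_comp`: for `ω → F → Q → 0` exact on a curve with `H⁰(O) = k`, `Q` of dimension zero with `h⁰(Q) ≥ 2` and no
nonzero submodule of `F` embedding in `Q`, the global sections of `F` generate `Q`.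
-/

set_option autoImplicit false

universe u

open CategoryTheory CategoryTheory.Limits AlgebraicGeometry Pretriangulated TopologicalSpace

namespace Groth.Agent.K315.DualGen

open Groth.Agent.CurvesC Groth.Agent.Fdesc.LocGen

variable {X : Scheme.{u}}

/-- The free module, as a coproduct. -/
noncomputable def Pf (X : Scheme.{u}) (κ : Type u) : X.Modules := ∐ fun _ : κ ↦ Coh.structureModule X

/-- inclusion of a factor -/
noncomputable def Pf.ι (X : Scheme.{u}) {κ : Type u} (j : κ) : Coh.structureModule X ⟶ Pf X κ :=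
  Sigma.ι (fun _ : κ ↦ Coh.structureModule X) j

theorem Pf.hom_ext {κ : Type u} {F : X.Modules} {a b : Pf X κ ⟶ F} (h : ∀ j, Pf.ι X j ≫ a = Pf.ι X j ≫ b) :
    a = b := Sigma.hom_ext (C := X.Modules) _ _ h

theorem Pf.isQCoh (κ : Type u) : Coh.IsQCoh (Pf X κ) := CohqB.QAffGen.isQCoh_free X κ

theorem Pf.isGloballyGenerated {κ : Type u} {F : X.Modules} (p : Pf X κ ⟶ F) (h : Epi p) :
    Curv2.IsGloballyGenerated F := ⟨κ, p, h⟩

/-- The evaluation map of all global sections. -/
noncomputable def ev (F : X.Modules) : Pf X (Γ(F, ⊤)) ⟶ F :=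
  Sigma.desc fun m : Γ(F, ⊤) => (homOf m : Coh.structureModule X ⟶ F)

theorem ι_ev (F : X.Modules) (m : Γ(F, ⊤)) : Pf.ι X m ≫ ev F = homOf m :=
  Sigma.ι_desc (C := X.Modules) (fun m : Γ(F, ⊤) => (homOf m : Coh.structureModule X ⟶ F)) m

theorem app_eq_zero {F G : X.Modules} (g : F ⟶ G) (h : ev F ≫ g = 0) (m : Γ(F, ⊤)) : g.app ⊤ m = 0 := by
  have h1 : homOf m ≫ g = 0 := by
    rw [← ι_ev, Category.assoc, h, comp_zero]
  have h4 : sec (homOf m ≫ g) ⊤ = g.app ⊤ m := by
    rw [sec_comp, sec_homOf, res_refl]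
  rw [← h4, h1]
  rfl

theorem map_zero_of_ev_comp (k : Type u) [Field k] [X.Over (Spec (CommRingCat.of k))] {F G : X.Modules}
    (g : F ⟶ G) (h : ev F ≫ g = 0) (x : HV X F 0) : HV.map k g 0 x = 0 := by
  apply (HV.zero G).injective
  rw [HV.zero_map, app_eq_zero g h, map_zero]

/-- Exactness is inherited by a submodule of the middle term containing the image. -/
theorem exact_sub {w F Q F' : X.Modules} (f : w ⟶ F) (g : F ⟶ Q) (z : f ≫ g = 0)
    (hex : (ShortComplex.mk f g z).Exact) (f' : w ⟶ F') (i : F' ⟶ F) [Mono i] (hf : f' ≫ i = f)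
    (z' : f' ≫ (i ≫ g) = 0) : (ShortComplex.mk f' (i ≫ g) z').Exact := by
  rw [ShortComplex.exact_iff_exact_up_to_refinements] at hex ⊢
  intro A x₂ hx₂
  dsimp at x₂ hx₂
  obtain ⟨A', π, hπ, x₁, hx₁⟩ := hex (x₂ ≫ i) (by
    change (x₂ ≫ i) ≫ g = 0
    rw [Category.assoc]
    exact hx₂)
  refine ⟨A', π, hπ, x₁, ?_⟩
  change π ≫ x₂ = x₁ ≫ f'
  have h1 : π ≫ x₂ ≫ i = x₁ ≫ f' ≫ i := by
    rw [hf]
    exact hx₁
  rw [← Category.assoc, ← Category.assoc] at h1
  exact (cancel_mono i).1 h1

/-- Exactness and the image of the second map. -/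
theorem exact_image {w F Q : X.Modules} (f : w ⟶ F) (g : F ⟶ Q) (z : f ≫ g = 0)
    (hex : (ShortComplex.mk f g z).Exact) (z' : f ≫ Abelian.factorThruImage g = 0) :
    (ShortComplex.mk f (Abelian.factorThruImage g) z').Exact := by
  rw [ShortComplex.exact_iff_exact_up_to_refinements] at hex ⊢
  intro A x₂ hx₂
  refine hex x₂ ?_
  change x₂ ≫ g = 0
  have h1 : x₂ ≫ Abelian.factorThruImage g = 0 := hx₂
  have h2 : x₂ ≫ g = (x₂ ≫ Abelian.factorThruImage g) ≫ Abelian.image.ι g := by
    rw [Category.assoc, Abelian.image.fac]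
  rw [h2, h1, zero_comp]

/-- If `f : w → F'` has a retraction whose kernel vanishes then it is an epimorphism. -/
theorem epi_of_retraction {w F' : X.Modules} (f' : w ⟶ F') (r : F' ⟶ w) (hr : f' ≫ r = 𝟙 w)
    (hK : IsZero (kernel r)) : Epi f' := by
  have hm : Mono r := Preadditive.mono_of_kernel_zero (hK.eq_zero_of_src _)
  have h1 : r ≫ f' = 𝟙 F' := by
    rw [← cancel_mono r, Category.assoc, hr, Category.comp_id, Category.id_comp]
  exact ⟨fun a b hab => by
    have h2 : r ≫ f' ≫ a = r ≫ f' ≫ b := by rw [hab]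
    rwa [← Category.assoc, ← Category.assoc, h1, Category.id_comp, Category.id_comp] at h2⟩

/-- The kernel of a retraction embeds in the quotient. -/
theorem mono_kernel {w F' Q : X.Modules} (f' : w ⟶ F') (g' : F' ⟶ Q) (z : f' ≫ g' = 0)
    (hex : (ShortComplex.mk f' g' z).Exact) (r : F' ⟶ w) (hr : f' ≫ r = 𝟙 w) : Mono (kernel.ι r ≫ g') := by
  rw [ShortComplex.exact_iff_exact_up_to_refinements] at hex
  refine Preadditive.mono_of_cancel_zero _ fun {A} x hx => ?_
  obtain ⟨A', π, hπ, y, hy⟩ := hex (x ≫ kernel.ι r) (by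
    change (x ≫ kernel.ι r) ≫ g' = 0
    rw [Category.assoc]
    exact hx)
  have hy' : π ≫ x ≫ kernel.ι r = y ≫ f' := hy
  have h1 : y = 0 := by
    have h2 : (π ≫ x ≫ kernel.ι r) ≫ r = (y ≫ f') ≫ r := by rw [hy']
    rw [Category.assoc, Category.assoc, Category.assoc, kernel.condition, comp_zero, comp_zero, hr,
      Category.comp_id] at h2
    exact h2.symm
  rw [h1, zero_comp] at hy'
  have h3 : x ≫ kernel.ι r = 0 := (cancel_epi π).1 (hy'.trans comp_zero.symm)
  exact (cancel_mono (kernel.ι r)).1 (h3.trans zero_comp.symm)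

variable {k : Type u} [Field k] [X.Over (Spec (CommRingCat.of k))]

theorem epi_ev_comp [IsProper (X ↘ (Spec (CommRingCat.of k)))]
    (hdim : topologicalKrullDim X = 1) {w : X.Modules} {t : HV X w 1 →ₗ[k] k} (ht : IsDual w t)
    (hw : Coh.IsQCoh w) (h1w : Module.finrank k (HV X w 1) = 1) {F Q : X.Modules} (hF : Coh.IsCoh F)
    (hQ : Coh.IsCoh Q) (f : w ⟶ F) (g : F ⟶ Q) [Epi g] (z : f ≫ g = 0)
    (hex : (ShortComplex.mk f g z).Exact) (hQ0 : topologicalKrullDim (CohB1.support Q) ≤ 0)
    (hQ2 : 2 ≤ Module.finrank k (Coh.HH X Q 0))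
    (hno : ∀ (Q' : X.Modules) (i : Q' ⟶ F), Mono i → Mono (i ≫ g) → IsZero Q') :
    Epi (ev F ≫ g) := by
  have hN : IsNoetherian X := CurveCoh.noetherianSpace k X
  have hPq : Coh.IsQCoh (Pf X (Γ(F, ⊤))) := Pf.isQCoh _
  let G : X.Modules := cokernel (ev F ≫ g)
  let π : F ⟶ G := g ≫ cokernel.π (ev F ≫ g)
  have hπ : Epi π := epi_comp _ _
  have hG : Coh.IsCoh G := CycB.CohProp.isCoh_of_epi (cokernel.π (ev F ≫ g)) hQ
    (CohqB.QC6.isQCoh_cokernel _ hPq hQ.1)
  have hdimsub : ∀ {M : X.Modules}, CohB1.support M ⊆ CohB1.support Q →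
      topologicalKrullDim (CohB1.support M) ≤ 0 := fun hM =>
    ((Topology.IsEmbedding.inclusion hM).isInducing.topologicalKrullDim_le).trans hQ0
  have hG0 : topologicalKrullDim (CohB1.support G) ≤ 0 :=
    hdimsub (CohqB.DevSupport.support_subset_of_epi (cokernel.π (ev F ≫ g)))
  let F' : X.Modules := kernel π
  let i : F' ⟶ F := kernel.ι π
  have hF'q : Coh.IsQCoh F' := PerfA.QCohSerre.isQCoh_kernel π hF.1 hG.1
  let f' : w ⟶ F' := kernel.lift π f (by
    change f ≫ g ≫ cokernel.π (ev F ≫ g) = 0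
    rw [← Category.assoc, z, zero_comp])
  have hf' : f' ≫ i = f := kernel.lift_ι _ _ _
  let p' : Pf X (Γ(F, ⊤)) ⟶ F' := kernel.lift π (ev F) (by
    change ev F ≫ g ≫ cokernel.π (ev F ≫ g) = 0
    have h1 := cokernel.condition (ev F ≫ g)
    rw [Category.assoc] at h1
    exact h1)
  have hp' : p' ≫ i = ev F := kernel.lift_ι _ _ _
  have z1 : f' ≫ (i ≫ g) = 0 := by rw [← Category.assoc, hf', z]
  have hex1 := exact_sub f g z hex f' i hf' z1
  have z2 : f' ≫ Abelian.factorThruImage (i ≫ g) = 0 := by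
    rw [← cancel_mono (Abelian.image.ι (i ≫ g)), Category.assoc, Abelian.image.fac, z1, zero_comp]
  have hex2 := exact_image f' (i ≫ g) z1 hex1 z2
  have hIq : Coh.IsCoh (Abelian.image (i ≫ g)) :=
    CycB.CohProp.isCoh_of_mono (Abelian.image.ι (i ≫ g)) (CohqB.QC6.isQCoh_image _ hF'q hQ.1) hQ
  have hI1 : Subsingleton (Coh.HH X (Abelian.image (i ≫ g)) 1) :=
    Groth.Agent.S1526.result k X _ hIq
      (hdimsub (CohqB.DevSupport.support_subset_of_mono (Abelian.image.ι (i ≫ g)))) 1 le_rfl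
  have key : ev F ≫ π = 0 := by
    rw [← hp', Category.assoc, kernel.condition, comp_zero]
  have hS : (ShortComplex.mk i π (kernel.condition π)).ShortExact :=
    { exact := ShortComplex.exact_of_f_is_kernel _ (kernelIsKernel π)
      mono_f := inferInstanceAs (Mono (kernel.ι π))
      epi_g := hπ }
  rcases DualExt.subsingleton_or_retraction (k := k) hdim ht hw h1w hF'q f' (Abelian.factorThruImage (i ≫ g))
    z2 hex2 hI1 with h1 | ⟨r, hr⟩
  · -- `H¹(F') = 0`
    have hG00 : Subsingleton (HV X G 0) := by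
      refine ⟨fun a b => ?_⟩
      have h2 : ∀ c : HV X G 0, c = 0 := by
        intro c
        obtain ⟨y, hy⟩ := HV.exact₃ k hS 0 c (h1.elim _ _)
        rw [← hy]
        exact map_zero_of_ev_comp k π key y
      rw [h2 a, h2 b]
    have hGz : IsZero G := by
      refine Fga.PosZero.isZero_of_globallyGenerated G (Groth.Agent.S1527.result k X G hG hG0) fun s => ?_
      obtain ⟨x, rfl⟩ := (HV.zero G).surjective s
      rw [Subsingleton.elim x 0, map_zero]
    exact Preadditive.epi_of_cokernel_zero (hGz.eq_zero_of_tgt _)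
  · -- the split case
    exfalso
    have hKm : Mono (kernel.ι r ≫ (i ≫ g)) := mono_kernel f' (i ≫ g) z1 hex1 r hr
    have hKz : IsZero (kernel r) := by
      refine hno (kernel r) (kernel.ι r ≫ i) (mono_comp _ _) ?_
      rw [Category.assoc]
      exact hKm
    have hf'e : Epi f' := epi_of_retraction f' r hr hKz
    have hig : i ≫ g = 0 := (cancel_epi f').1 (z1.trans comp_zero.symm)
    have hev : ev F ≫ g = 0 := by rw [← hp', Category.assoc, hig, comp_zero]
    have hf'm : Mono f' := by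
      have : Mono (f' ≫ r) := by rw [hr]; infer_instance
      exact mono_of_mono f' r
    have hfm : Mono f := by
      rw [← hf']
      exact mono_comp _ _
    have hS2 : (ShortComplex.mk f g z).ShortExact :=
      { exact := hex
        mono_f := hfm
        epi_g := inferInstanceAs (Epi g) }
    have hinj : Function.Injective (HV.δ k hS2 0) := by
      rw [← LinearMap.ker_eq_bot, LinearMap.ker_eq_bot']
      intro c hc
      obtain ⟨y, hy⟩ := HV.exact₃ k hS2 0 c hc
      rw [← hy]
      exact map_zero_of_ev_comp k g hev y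
    have hfw : Module.Finite k (HV X w 1) := Module.finite_of_finrank_eq_succ h1w
    have hle : Module.finrank k (HV X Q 0) ≤ Module.finrank k (HV X w 1) :=
      LinearMap.finrank_le_finrank_of_injective hinj
    have h3 : Module.finrank k (HV X Q 0) = Module.finrank k (Coh.HH X Q 0) := rfl
    omega

end Groth.Agent.K315.DualGen
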