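import Groth.Agent.Curves.K315.DualGen
import Groth.Agent.Curves.K315.RkOne
import Groth.Agent.CurvesB.SubH1
import Groth.Agent.CurvesC.KerSec
import Groth.Agent.S0002
import Groth.Agent.S0020

/-!
# A torsion-free extension of the dualizing module of an integral curve is globally generated
-/

set_option autoImplicit false

universe u

open CategoryTheory CategoryTheory.Limits AlgebraicGeometry Pretriangulated TopologicalSpace

namespace Groth.Agent.K315.DualTF

open Groth.Agent.CurvesC Groth.Agent.Fdesc.LocGen Groth.Agent.K315.DualGen Groth.Agent.K315.RkOne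
open Groth.Agent.CurvesB.RankOne (IsTors inf_nonempty)

variable {X : Scheme.{u}}

theorem ev_comp_eq_zero {F G : X.Modules} (g : F ⟶ G) (h : ∀ m : Γ(F, ⊤), g.app ⊤ m = 0) : ev F ≫ g = 0 := by
  apply Pf.hom_ext
  intro m
  rw [← Category.assoc, ι_ev, comp_zero]
  apply hom_ext_sec
  rw [sec_comp, sec_homOf, res_refl, h m]
  rfl

/-- Any map from a free module to `F` is killed by whatever kills the global sections. -/
theorem free_comp_eq_zero {F G : X.Modules} {κ : Type u} (u : Pf X κ ⟶ F)
    (g : F ⟶ G) (h : ∀ m : Γ(F, ⊤), g.app ⊤ m = 0) : u ≫ g = 0 := by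
  apply Pf.hom_ext
  intro j
  rw [← Category.assoc, comp_zero]
  apply hom_ext_sec
  rw [sec_comp, h]
  rfl

theorem isZero_of_sections {F : X.Modules} (h : ∀ (U : X.Opens) (m : Γ(F, U)), m = 0) : IsZero F := by
  rw [IsZero.iff_id_eq_zero]
  ext U m
  exact h U m

section Integral

variable [IsIntegral X]

/-- A module which vanishes at the generic point is torsion. -/
theorem isTors_of_not_mem_support {Q : X.Modules} (h : genericPoint X ∉ CohB1.support Q) : IsTors Q := by
  intro U s hU
  have hη : genericPoint X ∈ U := by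
    obtain ⟨x, hx⟩ := hU
    exact (genericPoint_specializes x).mem_open U.isOpen hx
  have hs : Subsingleton (Q.presheaf.stalk (genericPoint X)) := by
    by_contra hn
    exact h hn
  obtain ⟨V, hηV, i₁, i₂, h⟩ := Q.presheaf.germ_eq (genericPoint X) hη hη s 0 (hs.elim _ _)
  exact ⟨V, i₁.le, ⟨_, hηV⟩, h.trans (map_zero _)⟩

/-- A torsion module vanishes at the generic point. -/
theorem not_mem_support_of_isTors {Q : X.Modules} (h : IsTors Q) : genericPoint X ∉ CohB1.support Q := by
  intro hn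
  apply hn
  refine ⟨fun a b => ?_⟩
  have key : ∀ c : Q.presheaf.stalk (genericPoint X), c = 0 := by
    intro c
    obtain ⟨U, hη, s, rfl⟩ := Q.presheaf.exists_germ_eq c
    obtain ⟨V, hV, hVn, hs⟩ := h U s ⟨_, hη⟩
    have hηV : genericPoint X ∈ V := by
      obtain ⟨x, hx⟩ := hVn
      exact (genericPoint_specializes x).mem_open V.isOpen hx
    rw [← Q.presheaf.germ_res_apply (homOfLE hV) _ hηV s, hs, map_zero]
  rw [key a, key b]

/-- On an integral scheme of dimension one a zero-dimensional closed support misses the generic point. -/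
theorem not_mem_support_of_dim (hdim : topologicalKrullDim X = 1) {Q : X.Modules}
    (hc : IsClosed (CohB1.support Q)) (hQ0 : topologicalKrullDim (CohB1.support Q) ≤ 0) :
    genericPoint X ∉ CohB1.support Q := by
  intro hη
  have hu : CohB1.support Q = Set.univ := by
    rw [Set.eq_univ_iff_forall]
    intro x
    exact (genericPoint_specializes x).mem_closed hc hη
  have h1 : topologicalKrullDim X ≤ 0 := by
    refine le_trans ?_ hQ0
    have : Topology.IsInducing (fun x : X => (⟨x, hu ▸ Set.mem_univ x⟩ : CohB1.support Q)) := by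
      refine Topology.IsInducing.of_comp ?_ continuous_subtype_val ?_
      · exact continuous_id.subtype_mk _
      · exact Topology.IsInducing.id
    exact this.topologicalKrullDim_le
  rw [hdim] at h1
  exact absurd h1 (by decide)

/-- On an integral scheme of dimension at most one a torsion module of finite type has zero-dimensional support. -/
theorem dim_support_of_isTors (hdim : topologicalKrullDim X ≤ 1) {Q : X.Modules}
    (hc : IsClosed (CohB1.support Q)) (hQ : IsTors Q) : topologicalKrullDim (CohB1.support Q) ≤ 0 := by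
  refine CurvesB.SubH1.topologicalKrullDim_support_le hdim Q hc fun ξ hξ => ?_
  have h1 := hξ (genericPoint X) (genericPoint_specializes ξ)
  rw [← h1]
  by_contra hn
  exact not_mem_support_of_isTors hQ hn

end Integral

variable {k : Type u} [Field k] [X.Over (Spec (CommRingCat.of k))]

theorem isGloballyGenerated [IsIntegral X] [IsProper (X ↘ (Spec (CommRingCat.of k)))]
    (hdim : topologicalKrullDim X = 1) {w : X.Modules} {t : HV X w 1 →ₗ[k] k} (ht : IsDual w t)
    (hw : Coh.IsQCoh w) (h1w : Module.finrank k (HV X w 1) = 1) (hwP : Prp w)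
    {F Q : X.Modules} (hF : Coh.IsCoh F)
    (hQ : Coh.IsCoh Q) (f : w ⟶ F) (g : F ⟶ Q) (z : f ≫ g = 0)
    (hex : (ShortComplex.mk f g z).ShortExact) (hTF : TF F)
    (hQ0 : topologicalKrullDim (CohB1.support Q) ≤ 0)
    (hQ2 : 2 ≤ Module.finrank k (Coh.HH X Q 0)) : Curv2.IsGloballyGenerated F := by
  have hN : IsNoetherian X := CurveCoh.noetherianSpace k X
  have hfm : Mono f := hex.mono_f
  have hge : Epi g := hex.epi_g
  have hQnt : ¬ IsZero Q := by
    intro hz
    have h1 : Subsingleton (Coh.HH X Q 0) := by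
      refine ⟨fun a b => ?_⟩
      have key : ∀ c : HV X Q 0, c = 0 := by
        intro c
        have h2 : HV.map k (𝟙 Q) 0 c = c := by rw [HV.map_id]; rfl
        rw [← h2, (IsZero.iff_id_eq_zero Q).1 hz, HV.map_zero]
        rfl
      exact (key a).trans (key b).symm
    rw [Module.finrank_zero_of_subsingleton] at hQ2
    omega
  have hQη := not_mem_support_of_dim hdim (Groth.Agent.S0020.result X Q hQ.2) hQ0
  have hQt : IsTors Q := isTors_of_not_mem_support hQη
  have hlift : ∀ (U : X.Opens) (m : Γ(F, U)), g.app U m = 0 → ∃ m' : Γ(w, U), f.app U m' = m := by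
    intro U m hm
    obtain ⟨n, hn⟩ := KerSec.exists_kernel_ι_app_eq g U m hm
    let c : kernel g ⟶ w := hex.fIsKernel.lift (KernelFork.ofι (kernel.ι g) (kernel.condition g))
    have hc : c ≫ f = kernel.ι g :=
      hex.fIsKernel.fac (KernelFork.ofι (kernel.ι g) (kernel.condition g)) WalkingParallelPair.zero
    refine ⟨c.app U n, ?_⟩
    rw [← hn, ← hc]
    rfl
  have hFR : Rk1 F := ⟨hTF, prp_of_tors hTF hwP f g hlift hQt⟩
  have hno : ∀ (Q' : X.Modules) (i : Q' ⟶ F), Mono i → Mono (i ≫ g) → IsZero Q' := by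
    intro Q' i hi hig
    refine isZero_of_sections fun U m => ?_
    by_contra hm
    have hU := CurvesB.RankOneMono.nonempty_of_ne_zero hm
    obtain ⟨V, hV, hVn, hs⟩ := hQt U ((i ≫ g).app U m) hU
    have hs' : Ega1.QCohLoc.res Q hV ((i ≫ g).app U m) = 0 := hs
    rw [← Ega1.QCohLoc.res_app] at hs'
    have h2 := app_injective_of_mono (i ≫ g) V (hs'.trans (map_zero _).symm)
    exact hm ((hTF.of_mono i) hV hVn m h2)
  have hepi : Epi (ev F ≫ g) :=
    epi_ev_comp (k := k) hdim ht hw h1w hF hQ f g z hex.exact hQ0 hQ2 hno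
  have hevg : ev F ≫ g ≠ 0 := by
    intro h0
    rw [h0] at hepi
    exact hQnt ((IsZero.iff_id_eq_zero Q).2
      ((cancel_epi (0 : Pf X (Γ(F, ⊤)) ⟶ Q)).1 (by simp)))
  have hev : ev F ≠ 0 := by
    intro h0
    apply hevg
    rw [h0, zero_comp]
  by_contra hgg
  have hnepi : ¬ Epi (ev F) := fun h => hgg (Pf.isGloballyGenerated (ev F) h)
  have hPq : Coh.IsQCoh (Pf X (Γ(F, ⊤))) := Pf.isQCoh _
  let G : X.Modules := cokernel (ev F)
  let π : F ⟶ G := cokernel.π (ev F)
  have hG : Coh.IsCoh G := CycB.CohProp.isCoh_of_epi π hF (CohqB.QC6.isQCoh_cokernel _ hPq hF.1)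
  have hGt : IsTors G := isTors_of_epi hFR (ev F) hev π (cokernel.condition _)
  have hG0 : topologicalKrullDim (CohB1.support G) ≤ 0 :=
    dim_support_of_isTors hdim.le (Groth.Agent.S0020.result X G hG.2) hGt
  have hGnz : ¬ IsZero G := fun hz => hnepi (Preadditive.epi_of_cokernel_zero (hz.eq_zero_of_tgt _))
  let F' : X.Modules := kernel π
  let i : F' ⟶ F := kernel.ι π
  have hF'c : Coh.IsCoh F' := CycB.CohProp.isCoh_of_mono i
    (PerfA.QCohSerre.isQCoh_kernel π hF.1 hG.1) hF
  let e : Pf X (Γ(F, ⊤)) ⟶ F' := kernel.lift π (ev F) (cokernel.condition _)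
  have he : e ≫ i = ev F := kernel.lift_ι _ _ _
  have hee : Epi e := inferInstanceAs (Epi (Abelian.factorThruImage (ev F)))
  have hS : (ShortComplex.mk i π (kernel.condition π)).ShortExact :=
    { exact := ShortComplex.exact_of_f_is_kernel _ (kernelIsKernel π)
      mono_f := inferInstanceAs (Mono (kernel.ι π))
      epi_g := inferInstanceAs (Epi (cokernel.π (ev F))) }
  have hπ0 : ∀ m : Γ(F, ⊤), π.app ⊤ m = 0 := app_eq_zero π (cokernel.condition _)
  have h1nt : Nontrivial (HV X F' 1) := by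
    by_contra hn
    rw [not_nontrivial_iff_subsingleton] at hn
    apply hGnz
    refine Fga.PosZero.isZero_of_globallyGenerated G (Groth.Agent.S1527.result k X G hG hG0) fun s => ?_
    obtain ⟨c, rfl⟩ := (HV.zero G).surjective s
    obtain ⟨y, hy⟩ := HV.exact₃ k hS 0 c (hn.elim _ _)
    have hy' : HV.map k π 0 y = c := hy
    rw [← hy', HV.zero_map, hπ0]
  obtain ⟨ψ₁, hψ₁⟩ : ∃ ψ₁ : HV X F' 1 →ₗ[k] k, ψ₁ ≠ 0 := exists_ne (0 : Module.Dual k (HV X F' 1))
  obtain ⟨φ, hφ, -⟩ := ht F' hF'c.1 ψ₁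
  have hφ0 : φ ≠ 0 := by
    rintro rfl
    apply hψ₁
    rw [← hφ, HV.map_zero, LinearMap.comp_zero]
  have hφf : φ ≫ f ≠ 0 := by
    intro h0
    exact hφ0 ((cancel_mono f).1 (h0.trans zero_comp.symm))
  have hφπ : (φ ≫ f) ≫ π = 0 := by
    rw [← cancel_epi e, comp_zero]
    have h5 : e ≫ (φ ≫ f) ≫ π = (e ≫ φ ≫ f) ≫ π := by simp only [Category.assoc]
    rw [h5]
    exact free_comp_eq_zero (e ≫ φ ≫ f) π hπ0
  let ψ : F' ⟶ F' := kernel.lift π (φ ≫ f) hφπ
  have hψi : ψ ≫ i = φ ≫ f := kernel.lift_ι _ _ _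
  have hψ0 : ψ ≠ 0 := by
    intro h0
    apply hφf
    rw [← hψi, h0, zero_comp]
  have hF'R : Rk1 F' := hFR.of_mono i
  have hψm : Mono ψ := mono_of_ne_zero hF'R hF'R.1 ψ hψ0
  have hfin : Module.Finite k (HV X F' 0) := Groth.Agent.S0002.result k X F' hF'c 0
  have hinj : Function.Injective (HV.map k ψ 0) := by
    rw [← LinearMap.ker_eq_bot, LinearMap.ker_eq_bot']
    intro x hx
    apply (HV.zero F').injective
    rw [map_zero]
    apply app_injective_of_mono ψ ⊤
    rw [map_zero, ← HV.zero_map k, hx, map_zero]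
  have hsurj : Function.Surjective (HV.map k ψ 0) := LinearMap.injective_iff_surjective.1 hinj
  apply hevg
  apply ev_comp_eq_zero
  intro m
  obtain ⟨n, hn⟩ := KerSec.exists_kernel_ι_app_eq π ⊤ m (hπ0 m)
  obtain ⟨c, rfl⟩ := (HV.zero F').surjective n
  obtain ⟨c', rfl⟩ := hsurj c
  rw [HV.zero_map] at hn
  have h6 : (kernel.ι π).app ⊤ (ψ.app ⊤ (HV.zero F' c')) = (ψ ≫ i).app ⊤ (HV.zero F' c') := rfl
  rw [h6, hψi] at hn
  rw [← hn]
  have h7 : g.app ⊤ ((φ ≫ f).app ⊤ (HV.zero F' c')) = (φ ≫ f ≫ g).app ⊤ (HV.zero F' c') := rfl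
  rw [h7, z, comp_zero]
  rfl

end Groth.Agent.K315.DualTF
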