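import Groth.Agent.UnramA.FlatUnramAt
import Groth.Agent.UnramA.Locus
import Mathlib.RingTheory.Unramified.Field
import Mathlib.AlgebraicGeometry.FunctionField
import Mathlib.AlgebraicGeometry.Noetherian
import Mathlib.AlgebraicGeometry.Morphisms.FinitePresentation

/-!
# Generically unramified = generically étale = separable, for morphisms of integral schemes over a field
-/

set_option autoImplicit false

universe u

open CategoryTheory CategoryTheory.Limits AlgebraicGeometry

namespace K315.GenericUnram

variable {X Y : Scheme.{u}}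

theorem stalk_unramified_iff (f : X ⟶ Y) (x : X) (y : Y) (e : f x = y) :
    (Y.presheaf.stalkSpecializes (specializes_of_eq e) ≫ f.stalkMap x).hom.FormallyUnramified ↔
      (f.stalkMap x).hom.FormallyUnramified := by
  subst e
  have h : Y.presheaf.stalkSpecializes (specializes_of_eq (rfl : f x = f x)) = 𝟙 _ :=
    TopCat.Presheaf.stalkSpecializes_refl _ _
  rw [h, Category.id_comp]

theorem stalk_essFiniteType (f : X ⟶ Y) [LocallyOfFiniteType f] (x : X) (y : Y) (e : f x = y) :
    (Y.presheaf.stalkSpecializes (specializes_of_eq e) ≫ f.stalkMap x).hom.EssFiniteType := by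
  subst e
  have h : Y.presheaf.stalkSpecializes (specializes_of_eq (rfl : f x = f x)) = 𝟙 _ :=
    TopCat.Presheaf.stalkSpecializes_refl _ _
  rw [h, Category.id_comp]
  exact LocallyOfFiniteType.stalkMap f x

theorem stalk_flat [IsIntegral Y] (f : X ⟶ Y) (x : X) (e : f x = genericPoint Y) :
    (f.stalkMap x).hom.Flat := by
  have hF0 : ∀ y : Y, y = genericPoint Y → IsField (Y.presheaf.stalk y) := by
    rintro _ rfl
    exact Field.toIsField Y.functionField
  have hF := hF0 _ e
  let _ := hF.toField
  let _ := (f.stalkMap x).hom.toAlgebra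
  exact (inferInstance : Module.Flat (Y.presheaf.stalk (f x)) (X.presheaf.stalk x))

theorem unramified_iff [IsIntegral X] [IsIntegral Y] (f : X ⟶ Y) [LocallyOfFiniteType f]
    (e : f (genericPoint X) = genericPoint Y) :
    letI := ((Y.presheaf.stalkSpecializes (specializes_of_eq e) ≫ f.stalkMap (genericPoint X)).hom).toAlgebra
    (∃ U : X.Opens, (U : Set X).Nonempty ∧ FormallyUnramified (U.ι ≫ f)) ↔
      (FiniteDimensional Y.functionField X.functionField ∧
        Algebra.IsSeparable Y.functionField X.functionField) := by
  let _ : Algebra Y.functionField X.functionField :=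
    ((Y.presheaf.stalkSpecializes (specializes_of_eq e) ≫ f.stalkMap (genericPoint X)).hom).toAlgebra
  have h1 : (∃ U : X.Opens, (U : Set X).Nonempty ∧ FormallyUnramified (U.ι ≫ f)) ↔
      (∃ U : X.Opens, genericPoint X ∈ U ∧ FormallyUnramified (U.ι ≫ f)) := by
    refine exists_congr fun U => and_congr_left fun _ => ?_
    constructor
    · intro h
      exact (genericPoint_spec X).mem_open_set_iff U.isOpen |>.2 (by simpa using h)
    · intro h
      exact ⟨_, h⟩
  rw [h1, Groth.Agent.UnramA.Locus.unramified_nhd_iff, ← stalk_unramified_iff f _ _ e]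
  have hess : Algebra.EssFiniteType Y.functionField X.functionField :=
    stalk_essFiniteType f _ _ e
  constructor
  · intro h
    have h' : Algebra.FormallyUnramified Y.functionField X.functionField := h
    exact ⟨Algebra.FormallyUnramified.finite_of_free Y.functionField X.functionField,
      Algebra.FormallyUnramified.isSeparable Y.functionField X.functionField⟩
  · rintro ⟨-, h⟩
    have h' : Algebra.FormallyUnramified Y.functionField X.functionField :=
      Algebra.FormallyUnramified.of_isSeparable _ _
    exact h'

theorem unramified_iff_etale [IsIntegral X] [IsIntegral Y] (f : X ⟶ Y) [LocallyOfFinitePresentation f]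
    (e : f (genericPoint X) = genericPoint Y) :
    (∃ U : X.Opens, (U : Set X).Nonempty ∧ FormallyUnramified (U.ι ≫ f)) ↔
      (∃ U : X.Opens, (U : Set X).Nonempty ∧ Etale (U.ι ≫ f)) := by
  constructor
  · rintro ⟨U, hU, h⟩
    have hg : genericPoint X ∈ U :=
      (genericPoint_spec X).mem_open_set_iff U.isOpen |>.2 (by simpa using hU)
    have h2 : (f.stalkMap (genericPoint X)).hom.FormallyUnramified :=
      (Groth.Agent.UnramA.Locus.unramified_nhd_iff f _).1 ⟨U, hg, h⟩
    obtain ⟨V, hV, h3⟩ := (Groth.Agent.UnramA.FlatUnramAt.etale_nhd_iff_flat_and_formallyUnramified f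
      (genericPoint X)).2 ⟨stalk_flat f _ e, h2⟩
    exact ⟨V, ⟨_, hV⟩, h3⟩
  · rintro ⟨U, hU, h⟩
    exact ⟨U, hU, inferInstance⟩

theorem locallyOfFinitePresentation_of_isLocallyNoetherian (f : X ⟶ Y)
    [IsLocallyNoetherian Y] [LocallyOfFiniteType f] : LocallyOfFinitePresentation f where
  finitePresentation_appLE {U} hU {V} hV e := by
    have : IsNoetherianRing Γ(Y, U) := IsLocallyNoetherian.component_noetherian ⟨U, hU⟩
    exact RingHom.FinitePresentation.of_finiteType.1 (f.finiteType_appLE hU hV e)

end K315.GenericUnram
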