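import Groth.Agent.Curves.K315.InsepRam
import Groth.Agent.CycA.ProdStalk
import Groth.Agent.CurvesB.NodeCriterion
import Mathlib.AlgebraicGeometry.Morphisms.Integral
import Mathlib.FieldTheory.IsAlgClosed.AlgebraicClosure

/-!
# Ramification index of the base change to an algebraic closure
-/

set_option autoImplicit false

universe u

open CategoryTheory CategoryTheory.Limits AlgebraicGeometry TensorProduct IsLocalRing

namespace K315.InsepGeo

open Groth.Agent.CycA.ProdStalk Groth.Agent.CurvesB.Node Groth.Agent.CurvesB.StalkSemilinear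

theorem toStalk_eq {K : Type u} [Field K] {X : Scheme.{u}} (f : X ⟶ Spec (CommRingCat.of K)) (x : X) :
    toStalk f x = CommRingCat.ofHom (stMap f x) := by
  apply Spec.map_injective
  rw [SpecMap_toStalk, fromSpecStalk_comp]

theorem isIso_toStalk_id (K : Type u) [Field K] (s : Spec (CommRingCat.of K)) :
    IsIso (toStalk (𝟙 (Spec (CommRingCat.of K))) s) := by
  have hsp : s.asIdeal.IsPrime := PrimeSpectrum.isPrime s
  have hb : Function.Bijective (StructureSheaf.toStalk K s).hom := by
    let _ : Algebra K ↑((Spec (CommRingCat.of K)).presheaf.stalk s) :=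
      StructureSheaf.stalkAlgebra K s
    have : IsLocalization.AtPrime (↑((Spec (CommRingCat.of K)).presheaf.stalk s)) s.asIdeal :=
      StructureSheaf.IsLocalization.to_stalk K s
    have h : ∀ x ∈ s.asIdeal.primeCompl, IsUnit x := by
      intro x hx
      rw [isUnit_iff_ne_zero]
      rintro rfl
      exact hx (Ideal.zero_mem _)
    exact (IsLocalization.atUnits K s.asIdeal.primeCompl h
      (S := ↑((Spec (CommRingCat.of K)).presheaf.stalk s))).bijective
  have : IsIso (StructureSheaf.toStalk K s) := (ConcreteCategory.isIso_iff_bijective _).2 hb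
  have h : toStalk (𝟙 (Spec (CommRingCat.of K))) s = StructureSheaf.toStalk K s := by
    apply Spec.map_injective
    rw [SpecMap_toStalk, Category.comp_id]
    exact Spec.fromSpecStalk_eq' _ s
  rw [h]
  exact this

variable {k Ω : Type u} [Field k] [Field Ω] [Algebra k Ω] {X P : Scheme.{u}}
  {f : X ⟶ Spec (CommRingCat.of k)} {p : P ⟶ X} {q : P ⟶ Spec (CommRingCat.of Ω)}

/-- The ramification index at a point of a base change to an algebraically closed field. -/
theorem ramificationIdx_eq [IsAlgClosed Ω]
    (H : IsPullback p q f (Spec.map (CommRingCat.ofHom (algebraMap k Ω)))) (z : P)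
    (hfin : @Module.Finite k (X.residueField (p z)) _ _ (@Curv2.resAlgebra k _ X ⟨f⟩ (p z)).toModule) :
    letI := (p.stalkMap z).hom.toAlgebra
    Ideal.ramificationIdx (maximalIdeal (P.presheaf.stalk z)) (X.presheaf.stalk (p z)) =
      @Field.finInsepDegree k (X.residueField (p z)) _ _ (@Curv2.resAlgebra k _ X ⟨f⟩ (p z)) := by
  let _ : Algebra k (X.presheaf.stalk (p z)) := (stMap f (p z)).toAlgebra
  let _ : Algebra (X.presheaf.stalk (p z)) (P.presheaf.stalk z) := (p.stalkMap z).hom.toAlgebra
  have _ : IsLocalHom (algebraMap (X.presheaf.stalk (p z)) (P.presheaf.stalk z)) :=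
    inferInstanceAs (IsLocalHom (p.stalkMap z).hom)
  let g := Spec.map (CommRingCat.ofHom (algebraMap k Ω))
  have hi : IsIso (toStalk (𝟙 (Spec (CommRingCat.of Ω))) (q z)) := isIso_toStalk_id Ω (q z)
  let e : CommRingCat.of Ω ≅ (Spec (CommRingCat.of Ω)).presheaf.stalk (q z) :=
    asIso (toStalk (𝟙 (Spec (CommRingCat.of Ω))) (q z))
  let T : CommRingCat.{u} := CommRingCat.of (Ω ⊗[k] (X.presheaf.stalk (p z)))
  let iA : X.presheaf.stalk (p z) ⟶ T :=
    CommRingCat.ofHom (Algebra.TensorProduct.includeRight : _ →ₐ[k] Ω ⊗[k] (X.presheaf.stalk (p z))).toRingHom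
  let iΩ : CommRingCat.of Ω ⟶ T :=
    CommRingCat.ofHom (Algebra.TensorProduct.includeLeftRingHom : _ →+* Ω ⊗[k] (X.presheaf.stalk (p z)))
  have hg : toStalk g (q z) = CommRingCat.ofHom (algebraMap k Ω) ≫ e.hom := by
    apply Spec.map_injective
    rw [SpecMap_toStalk, Spec.map_comp, asIso_hom, SpecMap_toStalk, Category.comp_id]
  have hpush : IsPushout (toStalk f (p z)) (toStalk g (q z)) iA (e.inv ≫ iΩ) := by
    have h1 : IsPushout (CommRingCat.ofHom (algebraMap k Ω))
      (CommRingCat.ofHom (algebraMap k (X.presheaf.stalk (p z)))) iΩ iA :=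
      CommRingCat.isPushout_tensorProduct k Ω (X.presheaf.stalk (p z))
    refine IsPushout.of_iso h1.flip (Iso.refl _) (Iso.refl _) e (Iso.refl _) ?_ ?_ ?_ ?_
    · rw [toStalk_eq]; simp
    · rw [hg]; simp
    · simp
    · simp
  have hw : toStalk f (p z) ≫ p.stalkMap z = toStalk g (q z) ≫ q.stalkMap z :=
    toStalk_fst_eq_snd H.w z
  let φ : T ⟶ P.presheaf.stalk z := hpush.desc (p.stalkMap z) (q.stalkMap z) hw
  have hA : iA ≫ φ = p.stalkMap z := hpush.inl_desc _ _ _
  have hB : (e.inv ≫ iΩ) ≫ φ = q.stalkMap z := hpush.inr_desc _ _ _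
  have hloc := isLocalization_of_isPushout H z hpush φ hA hB
  let _ : Algebra (Ω ⊗[k] (X.presheaf.stalk (p z))) (P.presheaf.stalk z) := φ.hom.toAlgebra
  have halg : (IsLocalRing.ResidueField.algebra _ :
      Algebra k (IsLocalRing.ResidueField (X.presheaf.stalk (p z)))) =
      @Curv2.resAlgebra k _ X ⟨f⟩ (p z) := Algebra.algebra_ext _ _ (fun r => rfl)
  have hfin' : FiniteDimensional k (IsLocalRing.ResidueField (X.presheaf.stalk (p z))) := by
    have h0 : @Module.Finite k (IsLocalRing.ResidueField (X.presheaf.stalk (p z))) _ _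
        (IsLocalRing.ResidueField.algebra _ :
          Algebra k (IsLocalRing.ResidueField (X.presheaf.stalk (p z)))).toModule := by
      rw [halg]
      exact hfin
    exact h0
  have key := K315.InsepRam.ramificationIdx_eq k (X.presheaf.stalk (p z)) Ω (P.presheaf.stalk z)
    (fun a => congr(($hA).hom a).symm)
    ((maximalIdeal (P.presheaf.stalk z)).comap φ.hom).primeCompl
  rw [halg] at key
  exact key

end K315.InsepGeo
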