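import Groth.Agent.CalgC.TensorLocalPI
import Mathlib.FieldTheory.PurelyInseparable.PerfectClosure
import Mathlib.FieldTheory.SeparableClosure
import Mathlib.FieldTheory.IsAlgClosed.Basic
import Mathlib.RingTheory.Length
import Mathlib.RingTheory.Unramified.Field
import Mathlib.RingTheory.Artinian.Ring
import Mathlib.RingTheory.LocalProperties.Reduced
import Mathlib.RingTheory.FiniteLength
import Mathlib.RingTheory.LocalRing.ResidueField.Basic
import Mathlib.RingTheory.Localization.AtPrime.Basic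

/-!
# Lengths of localizations of `Ω ⊗ κ` and inseparable degrees
-/

set_option autoImplicit false

universe u

open TensorProduct IsLocalRing

namespace K315.InsepLength

/-- The length over a local ring whose residue field is `Ω` is the length over `Ω`. -/
theorem length_eq_of_residue_surjective (Ω E : Type*) [Field Ω] [CommRing E] [IsLocalRing E] [Algebra Ω E]
    (h : ∀ e : E, ∃ ω : Ω, e - algebraMap Ω E ω ∈ maximalIdeal E)
    (M : Type*) [AddCommGroup M] [Module E M] [Module Ω M] [IsScalarTower Ω E M] :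
    Module.length Ω M = Module.length E M := by
  by_cases hfl : IsFiniteLength E M
  · rename_i i1 i2 i3 i4
    revert i3 i4
    induction hfl with
    | of_subsingleton => intro i3 i4; rw [Module.length_eq_zero, Module.length_eq_zero]
    | @of_simple_quotient M _ _ N hs _ ih =>
      intro i3 i4
      have e1 : Module.length E M = Module.length E N + Module.length E (M ⧸ N) :=
        Module.length_eq_add_of_exact N.subtype N.mkQ N.injective_subtype N.mkQ_surjective
          (LinearMap.exact_subtype_mkQ N)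
      have e2 : Module.length Ω M = Module.length Ω N + Module.length Ω (M ⧸ N) :=
        Module.length_eq_add_of_exact (N.subtype.restrictScalars Ω) (N.mkQ.restrictScalars Ω)
          N.injective_subtype N.mkQ_surjective (LinearMap.exact_subtype_mkQ N)
      rw [e1, e2, ih, Module.length_eq_one E (M ⧸ N)]
      congr 1
      rw [Module.length_eq_one_iff, isSimpleModule_iff_toSpanSingleton_surjective]
      have hnt : Nontrivial (M ⧸ N) := IsSimpleModule.nontrivial E (M ⧸ N)
      refine ⟨hnt, fun x hx y => ?_⟩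
      obtain ⟨e, rfl⟩ := IsSimpleModule.toSpanSingleton_surjective E hx y
      obtain ⟨ω, hω⟩ := h e
      refine ⟨ω, ?_⟩
      obtain ⟨I, hI, ⟨φ⟩⟩ := isSimpleModule_iff_quot_maximal.1 hs
      have hI' : I = maximalIdeal E := eq_maximalIdeal hI
      have h0 : (e - algebraMap Ω E ω) • x = 0 := by
        apply φ.injective
        rw [map_smul, map_zero]
        obtain ⟨b, hb⟩ := Ideal.Quotient.mk_surjective (φ x)
        rw [← hb]
        change Ideal.Quotient.mk I ((e - algebraMap Ω E ω) * b) = 0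
        rw [Ideal.Quotient.eq_zero_iff_mem]
        exact I.mul_mem_right b (hI' ▸ hω)
      rw [sub_smul, sub_eq_zero, algebraMap_smul] at h0
      simp only [LinearMap.toSpanSingleton_apply]
      exact h0.symm
  · have h1 : Module.length E M = ⊤ := by
      by_contra hne
      exact hfl (Module.length_ne_top_iff.1 hne)
    have h2 : Module.length E M ≤ Module.length Ω M := by
      rw [← WithBot.coe_le_coe, Module.coe_length, Module.coe_length]
      exact Order.krullDim_le_of_orderEmbedding (Submodule.restrictScalarsEmbedding Ω E M)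
    rw [h1, top_le_iff] at h2
    rw [h1, h2]

/-- Length of a ring over itself is invariant under ring isomorphisms. -/
theorem length_self_eq_of_ringEquiv {A B : Type*} [CommRing A] [CommRing B] (e : A ≃+* B) :
    Module.length A A = Module.length B B := by
  let _ : Algebra A B := e.toRingHom.toAlgebra
  have h1 : Module.length A B = Module.length B B :=
    Module.length_eq_of_surjective (R := B) (S := A) (M := B) e.surjective
  rw [← h1]
  exact LinearEquiv.length_eq
    { toFun := e, invFun := e.symm, left_inv := e.left_inv, right_inv := e.right_inv,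
      map_add' := map_add e, map_smul' := fun a b => by
        simp only [RingHom.id_apply, smul_eq_mul, map_mul]; rfl }

/-- In a reduced Artinian ring, elements of a prime are killed by elements outside it. -/
theorem exists_mul_eq_zero (D : Type*) [CommRing D] [IsArtinianRing D] [IsReduced D] (q₀ : Ideal D)
    [q₀.IsPrime] (x : D) (hx : x ∈ q₀) : ∃ c : D, c ∉ q₀ ∧ c * x = 0 := by
  have hA' : IsArtinianRing (Localization.AtPrime q₀) := inferInstance
  have hred' : IsReduced (Localization.AtPrime q₀) := inferInstance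
  have hF : IsField (Localization.AtPrime q₀) := IsArtinianRing.isField_of_isReduced_of_isLocalRing _
  have hx0 : algebraMap D (Localization.AtPrime q₀) x = 0 := by
    have h1 : algebraMap D (Localization.AtPrime q₀) x ∈
        maximalIdeal (Localization.AtPrime q₀) := by
      rw [← Localization.AtPrime.map_eq_maximalIdeal]
      exact Ideal.mem_map_of_mem _ hx
    rw [isField_iff_maximalIdeal_eq.1 hF] at h1
    exact h1
  obtain ⟨c, hc⟩ := (IsLocalization.map_eq_zero_iff q₀.primeCompl _ x).1 hx0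
  exact ⟨c, c.2, hc⟩

section Main

variable (k κ Ω : Type*) [Field k] [Field κ] [Field Ω] [IsAlgClosed Ω] [Algebra k κ] [Algebra k Ω]
  [FiniteDimensional k κ]

/-- A prime of `Ω ⊗ κ` is the kernel of an `Ω`-algebra map to `Ω`. -/
theorem exists_algHom (q : Ideal (Ω ⊗[k] κ)) [q.IsPrime] :
    ∃ π : (Ω ⊗[k] κ) →ₐ[Ω] Ω, RingHom.ker π = q := by
  have hA : IsArtinianRing (Ω ⊗[k] κ) := IsArtinianRing.of_finite Ω (Ω ⊗[k] κ)
  have hq : q.IsMaximal := IsArtinianRing.isMaximal_of_isPrime q
  let _ : Field ((Ω ⊗[k] κ) ⧸ q) := Ideal.Quotient.field q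
  have hfin : Module.Finite Ω ((Ω ⊗[k] κ) ⧸ q) := inferInstance
  have hb : Function.Bijective (algebraMap Ω ((Ω ⊗[k] κ) ⧸ q)) :=
    IsAlgClosed.algebraMap_bijective_of_isIntegral
  let e : Ω ≃ₐ[Ω] ((Ω ⊗[k] κ) ⧸ q) := AlgEquiv.ofBijective (Algebra.ofId _ _) hb
  refine ⟨e.symm.toAlgHom.comp (Ideal.Quotient.mkₐ Ω q), ?_⟩
  ext x
  rw [RingHom.mem_ker]
  change e.symm (Ideal.Quotient.mk q x) = 0 ↔ _
  rw [map_eq_zero_iff _ e.symm.injective, Ideal.Quotient.eq_zero_iff_mem]

/-- In a localization with residue field given by `π`, elements of the separable closure act through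
`σ = π ∘ (a ↦ 1 ⊗ a)`. -/
theorem algebraMap_eq_of_isSeparable (S : IntermediateField k κ) [Algebra.IsSeparable k S]
    (π : (Ω ⊗[k] κ) →ₐ[Ω] Ω)
    (C : Type*) [CommRing C] [IsLocalRing C] [Algebra (Ω ⊗[k] κ) C]
    (hq : (maximalIdeal C).comap (algebraMap (Ω ⊗[k] κ) C) = RingHom.ker π) (s : S) :
    algebraMap (Ω ⊗[k] κ) C (1 ⊗ₜ (s : κ)) =
      algebraMap (Ω ⊗[k] κ) C (π (1 ⊗ₜ (s : κ)) ⊗ₜ 1) := by
  let ι : (Ω ⊗[k] S) →ₐ[Ω] (Ω ⊗[k] κ) := Algebra.TensorProduct.map (AlgHom.id Ω Ω) S.val
  let q₀ : Ideal (Ω ⊗[k] S) := RingHom.ker (π.comp ι)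
  have hq₀ : q₀.IsPrime := RingHom.ker_isPrime _
  have hun : Algebra.FormallyUnramified k S := Algebra.FormallyUnramified.of_isSeparable k S
  have hun' : Algebra.FormallyUnramified Ω (Ω ⊗[k] S) := inferInstance
  have hfin : Module.Finite Ω (Ω ⊗[k] S) := inferInstance
  have hess : Algebra.EssFiniteType Ω (Ω ⊗[k] S) := inferInstance
  have hred : IsReduced (Ω ⊗[k] S) := Algebra.FormallyUnramified.isReduced_of_field Ω (Ω ⊗[k] S)
  have hA : IsArtinianRing (Ω ⊗[k] S) := IsArtinianRing.of_finite Ω (Ω ⊗[k] S)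
  let x : Ω ⊗[k] S := 1 ⊗ₜ s - (π (1 ⊗ₜ (s : κ))) ⊗ₜ 1
  have hx : x ∈ q₀ := by
    rw [RingHom.mem_ker]
    change π (ι x) = 0
    have e1 : ι x = 1 ⊗ₜ (s : κ) - (π (1 ⊗ₜ (s : κ))) ⊗ₜ 1 := by
      simp [ι, x]
    have e2 : (π (1 ⊗ₜ (s : κ))) ⊗ₜ[k] (1 : κ) = algebraMap Ω (Ω ⊗[k] κ) (π (1 ⊗ₜ (s : κ))) := rfl
    rw [e1, map_sub, e2, AlgHom.commutes, Algebra.algebraMap_self, RingHom.id_apply, sub_self]
  obtain ⟨c, hcq, hc⟩ := exists_mul_eq_zero (Ω ⊗[k] S) q₀ x hx
  have h2 : algebraMap (Ω ⊗[k] κ) C (ι c) * algebraMap (Ω ⊗[k] κ) C (ι x) = 0 := by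
    rw [← map_mul, ← map_mul, hc, map_zero, map_zero]
  have h3 : IsUnit (algebraMap (Ω ⊗[k] κ) C (ι c)) := by
    by_contra hn
    have h4 : ι c ∈ (maximalIdeal C).comap (algebraMap (Ω ⊗[k] κ) C) := (mem_maximalIdeal _).2 hn
    rw [hq] at h4
    exact hcq h4
  have h5 := (h3.mul_right_eq_zero).1 h2
  have e1 : ι x = 1 ⊗ₜ (s : κ) - (π (1 ⊗ₜ (s : κ))) ⊗ₜ 1 := by
    simp [ι, x]
  rw [e1, map_sub, sub_eq_zero] at h5
  exact h5

/-- The length of a local localization of `Ω ⊗ κ` is the inseparable degree. -/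
theorem length_of_isLocalization (M : Submonoid (Ω ⊗[k] κ)) (C : Type*) [CommRing C] [IsLocalRing C]
    [Algebra (Ω ⊗[k] κ) C] [IsLocalization M C] :
    Module.length C C = Field.finInsepDegree k κ := by
  have hqp : ((maximalIdeal C).comap (algebraMap (Ω ⊗[k] κ) C)).IsPrime := Ideal.comap_isPrime _ _
  obtain ⟨π, hπ⟩ := exists_algHom k κ Ω ((maximalIdeal C).comap (algebraMap (Ω ⊗[k] κ) C))
  let S := separableClosure k κ
  have hSsep : Algebra.IsSeparable k S := inferInstance
  have hkey := algebraMap_eq_of_isSeparable k κ Ω S π C hπ.symm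
  let σ : κ →ₐ[k] Ω := (π.restrictScalars k).comp Algebra.TensorProduct.includeRight
  let _ : Algebra S Ω := (σ.toRingHom.comp (algebraMap S κ)).toAlgebra
  have hT1 : IsScalarTower k S Ω := IsScalarTower.of_algebraMap_eq fun c => by
    change algebraMap k Ω c = σ (algebraMap S κ (algebraMap k S c))
    rw [← IsScalarTower.algebraMap_apply, AlgHom.commutes]
  -- the target
  let E := Ω ⊗[S] κ
  let θ : (Ω ⊗[k] κ) →ₐ[Ω] E := Algebra.TensorProduct.lift (Algebra.ofId Ω E)
    ((Algebra.TensorProduct.includeRight : κ →ₐ[S] E).restrictScalars k) (fun _ _ => Commute.all _ _)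
  have hθ : ∀ (ω : Ω) (a : κ), θ (ω ⊗ₜ a) = ω ⊗ₜ a := by
    intro ω a
    change algebraMap Ω E ω * ((1 : Ω) ⊗ₜ[S] a) = _
    rw [Algebra.TensorProduct.algebraMap_apply, Algebra.TensorProduct.tmul_mul_tmul, one_mul,
      mul_one, Algebra.algebraMap_self, RingHom.id_apply]
  have hθs : Function.Surjective θ := by
    intro z
    induction z using TensorProduct.induction_on with
    | zero => exact ⟨0, map_zero _⟩
    | tmul ω a => exact ⟨ω ⊗ₜ a, hθ ω a⟩
    | add x y hx hy =>
      obtain ⟨x', rfl⟩ := hx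
      obtain ⟨y', rfl⟩ := hy
      exact ⟨x' + y', map_add _ _ _⟩
  let σS : κ →ₐ[S] Ω := { σ with commutes' := fun s => rfl }
  let πE : E →ₐ[Ω] Ω := Algebra.TensorProduct.lift (AlgHom.id Ω Ω) σS (fun _ _ => Commute.all _ _)
  have hπE : ∀ x, πE (θ x) = π x := by
    intro x
    induction x using TensorProduct.induction_on with
    | zero => rw [map_zero, map_zero, map_zero]
    | tmul ω a =>
      rw [hθ]
      have h1 : πE (ω ⊗ₜ a) = ω * π (1 ⊗ₜ a) := Algebra.TensorProduct.lift_tmul _ _ _ _ _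
      rw [h1]
      have h2 : (ω ⊗ₜ[k] a : Ω ⊗[k] κ) = ω • ((1 : Ω) ⊗ₜ[k] a) := by
        rw [TensorProduct.smul_tmul', smul_eq_mul, mul_one]
      rw [h2, map_smul, smul_eq_mul]
    | add x y hx hy => rw [map_add, map_add, map_add, hx, hy]
  -- the target is local
  have hnu : ∀ x : E, IsNilpotent x ∨ IsUnit x := fun x =>
    Groth.Agent.CalgC.TensorLocalPI.isNilpotent_or_isUnit (Or.inr (inferInstance : IsPurelyInseparable S κ)) x
  have hntE : Nontrivial E := πE.toRingHom.domain_nontrivial
  have hlocE : IsLocalRing E := by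
    refine IsLocalRing.of_isUnit_or_isUnit_one_sub_self fun a => ?_
    rcases hnu a with h | h
    · exact Or.inr h.isUnit_one_sub
    · exact Or.inl h
  have hunit : ∀ x : E, πE x ≠ 0 → IsUnit x := by
    intro x hx
    rcases hnu x with h | h
    · exact absurd (h.map πE).eq_zero hx
    · exact h
  -- the map back
  let _ : Algebra S C := ((algebraMap (Ω ⊗[k] κ) C).comp
    ((Algebra.TensorProduct.includeRight : κ →ₐ[k] Ω ⊗[k] κ).toRingHom.comp (algebraMap S κ))).toAlgebra
  let f : Ω →ₐ[S] C :=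
    { (algebraMap (Ω ⊗[k] κ) C).comp (algebraMap Ω (Ω ⊗[k] κ)) with
      commutes' := fun s => (hkey s).symm }
  let g : κ →ₐ[S] C :=
    { (algebraMap (Ω ⊗[k] κ) C).comp
        (Algebra.TensorProduct.includeRight : κ →ₐ[k] Ω ⊗[k] κ).toRingHom with
      commutes' := fun s => rfl }
  let φ : E →ₐ[S] C := Algebra.TensorProduct.lift f g (fun _ _ => Commute.all _ _)
  have hφ : ∀ x, φ (θ x) = algebraMap (Ω ⊗[k] κ) C x := by
    intro x
    induction x using TensorProduct.induction_on with
    | zero => rw [map_zero, map_zero, map_zero]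
    | tmul ω a =>
      rw [hθ]
      have h1 : φ (ω ⊗ₜ a) = algebraMap (Ω ⊗[k] κ) C (ω ⊗ₜ 1) * algebraMap (Ω ⊗[k] κ) C (1 ⊗ₜ a) :=
        Algebra.TensorProduct.lift_tmul _ _ _ _ _
      rw [h1, ← map_mul, Algebra.TensorProduct.tmul_mul_tmul, one_mul, mul_one]
    | add x y hx hy => rw [map_add, map_add, map_add, hx, hy]
  let _ : Algebra (Ω ⊗[k] κ) E := θ.toRingHom.toAlgebra
  have hlocalization : IsLocalization M E := by
    refine ⟨?_, ?_, ?_⟩
    · intro m
      refine hunit _ ?_
      change πE (θ m) ≠ 0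
      rw [hπE]
      intro h0
      have h1 : (m : Ω ⊗[k] κ) ∈ RingHom.ker π := h0
      rw [hπ] at h1
      exact ((mem_maximalIdeal _).1 h1) (IsLocalization.map_units C m)
    · intro z
      obtain ⟨x, rfl⟩ := hθs z
      exact ⟨(x, 1), by simp; rfl⟩
    · intro x y hxy
      have h1 : algebraMap (Ω ⊗[k] κ) C x = algebraMap (Ω ⊗[k] κ) C y := by
        rw [← hφ, ← hφ]
        exact congrArg φ hxy
      exact IsLocalization.exists_of_eq (M := M) h1
  have e : C ≃+* E := (IsLocalization.algEquiv M C E).toRingEquiv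
  rw [length_self_eq_of_ringEquiv e, ← length_eq_of_residue_surjective Ω E ?_ E,
    Module.length_eq_finrank, Module.finrank_baseChange]
  · rfl
  · intro x
    refine ⟨πE x, ?_⟩
    rw [mem_maximalIdeal, mem_nonunits_iff]
    intro h
    have h1 := (h.map πE).ne_zero
    apply h1
    rw [map_sub, AlgHom.commutes, Algebra.algebraMap_self, RingHom.id_apply, sub_self]

end Main

end K315.InsepLength

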