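import Groth.Agent.Curves.K315.InsepLength
import Mathlib.RingTheory.RamificationInertia.Ramification
import Mathlib.RingTheory.Localization.Ideal

/-!
# Ramification index of a local localization of `Ω ⊗ A` over `A`
-/

set_option autoImplicit false

universe u

open TensorProduct IsLocalRing

namespace K315.InsepRam

open K315.InsepLength

/-- Length of a quotient of a ring as a module and as a ring. -/
theorem length_quotient_eq {B : Type*} [CommRing B] (J : Ideal B) :
    Module.length B (B ⧸ J) = Module.length (B ⧸ J) (B ⧸ J) :=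
  Module.length_eq_of_surjective (R := B ⧸ J) (S := B) (M := B ⧸ J) Ideal.Quotient.mk_surjective

theorem length_quotient_eq_of_ringEquiv {B B' : Type*} [CommRing B] [CommRing B'] (e : B ≃+* B')
    (J : Ideal B) (J' : Ideal B') (h : J' = J.map (e : B →+* B')) :
    Module.length B (B ⧸ J) = Module.length B' (B' ⧸ J') := by
  rw [length_quotient_eq, length_quotient_eq]
  exact length_self_eq_of_ringEquiv (Ideal.quotientEquiv J J' e h)

variable (k A Ω B : Type*) [Field k] [CommRing A] [IsLocalRing A] [Algebra k A] [Field Ω]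
  [IsAlgClosed Ω] [Algebra k Ω] [CommRing B] [IsLocalRing B] [Algebra A B]
  [IsLocalHom (algebraMap A B)] [FiniteDimensional k (ResidueField A)]
  [Algebra (Ω ⊗[k] A) B]

/-- Let `B` be a local ring which is a localization of `Ω ⊗ A`, local over `A`. Then the length of
`B / m_A B` is the inseparable degree of the residue field of `A`. -/
theorem length_eq (hA : ∀ a : A, algebraMap A B a = algebraMap (Ω ⊗[k] A) B (1 ⊗ₜ a))
    (M : Submonoid (Ω ⊗[k] A)) [IsLocalization M B] :
    Module.length B (B ⧸ (maximalIdeal A).map (algebraMap A B)) =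
      Field.finInsepDegree k (ResidueField A) := by
  let J : Ideal B := (maximalIdeal A).map (algebraMap A B)
  have hJ : J ≤ maximalIdeal B := by
    rw [Ideal.map_le_iff_le_comap]
    have h1 : (maximalIdeal B).comap (algebraMap A B) = maximalIdeal A :=
      ((local_hom_TFAE (algebraMap A B)).out 0 4).mp (inferInstance : IsLocalHom (algebraMap A B))
    exact h1.ge
  let C := B ⧸ J
  have hCn : Nontrivial C := Ideal.Quotient.nontrivial_iff.2 (fun h => by
    rw [h, top_le_iff] at hJ
    exact (maximalIdeal.isMaximal B).ne_top hJ)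
  have hCl : IsLocalRing C := IsLocalRing.of_surjective' (Ideal.Quotient.mk J) Ideal.Quotient.mk_surjective
  rw [length_quotient_eq]
  let m : (Ω ⊗[k] A) →+* C := (Ideal.Quotient.mk J).comp (algebraMap (Ω ⊗[k] A) B)
  let _ : Algebra k C := (m.comp (algebraMap k (Ω ⊗[k] A))).toAlgebra
  let mk' : (Ω ⊗[k] A) →ₐ[k] C := { m with commutes' := fun c => rfl }
  let f : Ω →ₐ[k] C := mk'.comp Algebra.TensorProduct.includeLeft
  let g₀ : A →ₐ[k] C := mk'.comp Algebra.TensorProduct.includeRight
  have hg₀ : ∀ a ∈ maximalIdeal A, g₀ a = 0 := by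
    intro a ha
    change Ideal.Quotient.mk J (algebraMap (Ω ⊗[k] A) B (1 ⊗ₜ a)) = 0
    rw [← hA, Ideal.Quotient.eq_zero_iff_mem]
    exact Ideal.mem_map_of_mem _ ha
  let g : ResidueField A →ₐ[k] C := Ideal.Quotient.liftₐ (maximalIdeal A) g₀ hg₀
  let ρ : (Ω ⊗[k] ResidueField A) →ₐ[k] C :=
    Algebra.TensorProduct.lift f g (fun _ _ => Commute.all _ _)
  let fκ : (Ω ⊗[k] A) →ₐ[k] (Ω ⊗[k] ResidueField A) :=
    Algebra.TensorProduct.map (AlgHom.id k Ω) (IsScalarTower.toAlgHom k A (ResidueField A))
  have hfκ : Function.Surjective fκ :=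
    TensorProduct.map_surjective (g := (AlgHom.id k Ω).toLinearMap)
      (g' := (IsScalarTower.toAlgHom k A (ResidueField A)).toLinearMap)
      (fun x => ⟨x, rfl⟩) residue_surjective
  have hcomp : ∀ x, ρ (fκ x) = m x := by
    intro x
    induction x using TensorProduct.induction_on with
    | zero => rw [map_zero, map_zero, map_zero]
    | tmul ω a =>
      have h1 : ρ (fκ (ω ⊗ₜ a)) = m (ω ⊗ₜ 1) * m (1 ⊗ₜ a) :=
        Algebra.TensorProduct.lift_tmul _ _ _ _ _
      rw [h1, ← map_mul, Algebra.TensorProduct.tmul_mul_tmul, one_mul, mul_one]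
    | add x y hx hy => rw [map_add, map_add, map_add, hx, hy]
  let _ : Algebra (Ω ⊗[k] ResidueField A) C := ρ.toRingHom.toAlgebra
  have hloc : IsLocalization (M.map fκ.toRingHom) C := by
    refine IsLocalization.of_surjective (R := Ω ⊗[k] A) (S := B) M fκ.toRingHom hfκ
      (Ideal.Quotient.mk J) Ideal.Quotient.mk_surjective ?_ ?_
    · ext x
      · exact (hcomp _).symm
      · exact (hcomp _).symm
    · rw [Ideal.mk_ker, Ideal.map_le_iff_le_comap]
      intro a ha
      rw [Ideal.mem_comap, hA]
      refine Ideal.mem_map_of_mem _ ?_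
      rw [RingHom.mem_ker]
      change (1 : Ω) ⊗ₜ[k] (residue A a) = 0
      rw [(residue_eq_zero_iff a).2 ha, TensorProduct.tmul_zero]
  exact length_of_isLocalization k (ResidueField A) Ω (M.map fκ.toRingHom) C

/-- The ramification index of the maximal ideal is the inseparable degree of the residue field. -/
theorem ramificationIdx_eq (hA : ∀ a : A, algebraMap A B a = algebraMap (Ω ⊗[k] A) B (1 ⊗ₜ a))
    (M : Submonoid (Ω ⊗[k] A)) [IsLocalization M B] :
    (maximalIdeal B).ramificationIdx A = Field.finInsepDegree k (ResidueField A) := by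
  rw [Ideal.ramificationIdx_def]
  have hu : (maximalIdeal B).under A = maximalIdeal A :=
    ((local_hom_TFAE (algebraMap A B)).out 0 4).mp (inferInstance : IsLocalHom (algebraMap A B))
  rw [hu]
  let e : B ≃+* Localization.AtPrime (maximalIdeal B) :=
    (IsLocalization.atUnits B (maximalIdeal B).primeCompl (S := Localization.AtPrime (maximalIdeal B))
      (fun x hx => by
        by_contra h
        exact hx ((mem_maximalIdeal x).2 h))).toRingEquiv
  have h := length_quotient_eq_of_ringEquiv e ((maximalIdeal A).map (algebraMap A B))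
    ((maximalIdeal A).map (algebraMap A (Localization.AtPrime (maximalIdeal B)))) (by
      rw [Ideal.map_map]
      congr 1)
  rw [← h, length_eq k A Ω B hA M]
  rfl

end K315.InsepRam
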