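import Groth.Agent.Curves.K315.KaehlerUnif
import Groth.Agent.Sga4B.RegLocal
import Groth.Agent.Lefpen.H705.ClosedPoint
import Groth.Agent.Ega2.RegLow

/-!
# Differentials of the local rings of a scheme smooth of relative dimension one near a point
-/

set_option autoImplicit false
universe u
open CategoryTheory CategoryTheory.Limits AlgebraicGeometry Opposite TensorProduct IsLocalRing

namespace K315.KaehlerStalk

open Groth.Agent.Sga4B.RegLocal

variable {K : Type u} [Field K]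

theorem eq_top_of_mem (U : (Spec (CommRingCat.of K)).Opens) (x : Spec (CommRingCat.of K)) (hx : x ∈ U) :
    U = ⊤ := by
  have : Subsingleton (PrimeSpectrum K) := inferInstance
  ext y
  have h : (y : PrimeSpectrum K) = x := Subsingleton.elim _ _
  constructor
  · intro _; trivial
  · intro _
    change y ∈ U
    rw [show y = x from h]
    exact hx

theorem exists_toSec {Z : Scheme.{u}} (g : Z ⟶ Spec (CommRingCat.of K)) (n : ℕ)
    [h : SmoothOfRelativeDimension n g] (z : Z) :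
    ∃ (V : Z.Opens) (_ : IsAffineOpen V) (_ : z ∈ V), (toSec g V).IsStandardSmoothOfRelativeDimension n := by
  obtain ⟨U, hU, V, hV, hz, e, hn⟩ := h.exists_isStandardSmoothOfRelativeDimension z
  obtain rfl := eq_top_of_mem U (g z) (e hz)
  refine ⟨V, hV, hz, ?_⟩
  have h1 := hn.comp (RingHom.IsStandardSmoothOfRelativeDimension.equiv
    (Scheme.ΓSpecIso (CommRingCat.of K)).symm.commRingCatIsoToRingEquiv)
  rw [add_zero] at h1
  exact h1

/-- Affine standard smooth neighbourhoods in the ambient scheme. -/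
theorem exists_toSec_of_open {Z : Scheme.{u}} (g : Z ⟶ Spec (CommRingCat.of K)) (n : ℕ) (U : Z.Opens)
    [h : SmoothOfRelativeDimension n (U.ι ≫ g)] (z : Z) (hz : z ∈ U) :
    ∃ (V : Z.Opens) (_ : IsAffineOpen V) (_ : z ∈ V),
      (toSec g V).IsStandardSmoothOfRelativeDimension n := by
  obtain ⟨V, hV, hzV, hn⟩ := exists_toSec (U.ι ≫ g) n ⟨z, hz⟩
  refine ⟨U.ι ''ᵁ V, hV.image_of_isOpenImmersion U.ι, ⟨_, hzV, rfl⟩, ?_⟩
  have h1 : toSec (U.ι ≫ g) V = ((U.ι.appIso V).hom.hom).comp (toSec g (U.ι ''ᵁ V)) := by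
    unfold toSec
    have e : (U.ι ≫ g).appLE ⊤ V (show V ≤ (U.ι ≫ g) ⁻¹ᵁ ⊤ from le_top) =
        g.appLE ⊤ (U.ι ''ᵁ V) (show U.ι ''ᵁ V ≤ g ⁻¹ᵁ ⊤ from le_top) ≫ (U.ι.appIso V).hom := by
      rw [Scheme.Hom.appIso_hom']
      exact (Scheme.Hom.appLE_comp_appLE U.ι g ⊤ (U.ι ''ᵁ V) V le_top _).symm
    rw [e]
    rfl
  have h2 : toSec g (U.ι ''ᵁ V) = ((U.ι.appIso V).inv.hom).comp (toSec (U.ι ≫ g) V) := by
    rw [h1, ← RingHom.comp_assoc, ← CommRingCat.hom_comp, Iso.hom_inv_id, CommRingCat.hom_id,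
      RingHom.id_comp]
  rw [h2, ← zero_add n]
  exact (RingHom.IsStandardSmoothOfRelativeDimension.equiv
    (U.ι.appIso V).symm.commRingCatIsoToRingEquiv).comp hn

/-- Local rings of a scheme smooth of relative dimension `n` near `z`: differentials. -/
theorem free_stalk {Z : Scheme.{u}} (g : Z ⟶ Spec (CommRingCat.of K)) (n : ℕ) (U : Z.Opens)
    [h : SmoothOfRelativeDimension n (U.ι ≫ g)] (z : Z) (hz : z ∈ U) :
    letI := (toStalk g z).toAlgebra
    Module.Free (Z.presheaf.stalk z) Ω[Z.presheaf.stalk z⁄K] ∧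
      Module.Finite (Z.presheaf.stalk z) Ω[Z.presheaf.stalk z⁄K] ∧
      Module.finrank (Z.presheaf.stalk z) Ω[Z.presheaf.stalk z⁄K] = n := by
  obtain ⟨V, hV, hzV, hn⟩ := exists_toSec_of_open g n U z hz
  let := (toSec g V).toAlgebra
  let := (toStalk g z).toAlgebra
  let := Z.presheaf.algebra_section_stalk ⟨z, hzV⟩
  have hloc := hV.isLocalization_stalk ⟨z, hzV⟩
  have : IsScalarTower K Γ(Z, V) (Z.presheaf.stalk z) :=
    IsScalarTower.of_algebraMap_eq' (germ_toSec g V z hzV).symm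
  have : Algebra.FormallyEtale Γ(Z, V) (Z.presheaf.stalk z) :=
    .of_isLocalization (hV.primeIdealOf ⟨z, hzV⟩).asIdeal.primeCompl
  have hst : Algebra.IsStandardSmoothOfRelativeDimension n K Γ(Z, V) := hn
  have hN : Nontrivial Γ(Z, V) :=
    (algebraMap Γ(Z, V) (Z.presheaf.stalk z)).domain_nontrivial
  have hss : Algebra.IsStandardSmooth K Γ(Z, V) := hst.isStandardSmooth n
  have hfr : Module.Free Γ(Z, V) Ω[Γ(Z, V)⁄K] := inferInstance
  have hfi : Module.Finite Γ(Z, V) Ω[Γ(Z, V)⁄K] := inferInstance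
  let e := KaehlerDifferential.tensorKaehlerEquivOfFormallyEtale K Γ(Z, V) (Z.presheaf.stalk z)
  refine ⟨Module.Free.of_equiv e, Module.Finite.equiv e, ?_⟩
  rw [← e.finrank_eq, Module.finrank_baseChange]
  exact Module.finrank_eq_of_rank_eq hst.rank_kaehlerDifferential

/-- The local rings at closed points of a scheme smooth of relative dimension one nearby are
discrete valuation rings. -/
theorem isDVR_stalk {Z : Scheme.{u}} (g : Z ⟶ Spec (CommRingCat.of K)) (U : Z.Opens)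
    [h : SmoothOfRelativeDimension 1 (U.ι ≫ g)] (z : Z) (hz : z ∈ U) (hcl : IsClosed ({z} : Set Z)) :
    ∃ _ : IsDomain (Z.presheaf.stalk z), IsDiscreteValuationRing (Z.presheaf.stalk z) := by
  have hsm : Smooth (U.ι ≫ g) := SmoothOfRelativeDimension.smooth 1 _
  have hcl' : IsClosed ({(⟨z, hz⟩ : U)} : Set U.toScheme) := by
    have := hcl.preimage U.ι.continuous
    convert this
    ext y
    constructor
    · rintro rfl; rfl
    · intro hy; exact Subtype.ext hy
  have h1 := Groth.Agent.Lefpen.H705.ClosedPoint.isRegularLocalRing_stalk (U.ι ≫ g) ⟨z, hz⟩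
  have h2 := Groth.Agent.Lefpen.H705.ClosedPoint.ringKrullDim_stalk (U.ι ≫ g) 1 ⟨z, hz⟩ hcl'
  let e : Z.presheaf.stalk z ≃+* U.toScheme.presheaf.stalk ⟨z, hz⟩ :=
    (U.stalkIso ⟨z, hz⟩).symm.commRingCatIsoToRingEquiv
  have h1' : IsRegularLocalRing (Z.presheaf.stalk z) := IsRegularLocalRing.of_ringEquiv e.symm
  have h2' : ringKrullDim (Z.presheaf.stalk z) = 1 := by
    rw [ringKrullDim_eq_of_ringEquiv e]; exact_mod_cast h2
  have hd : IsDomain (Z.presheaf.stalk z) := Groth.Agent.Ega2.RegLow.isDomain _ h2'.le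
  have h3 : ¬ IsField (Z.presheaf.stalk z) := by
    intro h
    rw [ringKrullDim_eq_zero_of_isField h] at h2'
    exact absurd h2' (by decide)
  exact ⟨hd, ((IsDiscreteValuationRing.TFAE _ h3).out 0 1).mpr
    (Groth.Agent.Ega2.RegLow.valuationRing _ h2'.le)⟩

theorem toStalk_eq {Z : Scheme.{u}} (g : Z ⟶ Spec (CommRingCat.of K)) (z : Z) :
    toStalk g z = @Curv2.stalkMap K _ Z ⟨g⟩ z := by
  unfold toStalk toSec Curv2.stalkMap
  congr 1
  have e : g.appLE ⊤ ⊤ (show ⊤ ≤ g ⁻¹ᵁ ⊤ from le_top) = g.appTop := by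
    rw [Scheme.Hom.appLE]
    have h3 : Z.presheaf.map (homOfLE (le_top : (⊤ : Z.Opens) ≤ ⊤)).op = 𝟙 _ := Z.presheaf.map_id _
    exact (congrArg (fun φ => g.app ⊤ ≫ φ) h3).trans (Category.comp_id _)
  rw [e]
  rfl

/-- Local rings of a scheme smooth of relative dimension `n` near `z`: differentials. -/
theorem free_stalk' {Z : Scheme.{u}} (g : Z ⟶ Spec (CommRingCat.of K)) (n : ℕ) (U : Z.Opens)
    [h : SmoothOfRelativeDimension n (U.ι ≫ g)] (z : Z) (hz : z ∈ U) :
    letI := @Curv2.stalkAlgebra K _ Z ⟨g⟩ z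
    Module.Free (Z.presheaf.stalk z) Ω[Z.presheaf.stalk z⁄K] ∧
      Module.Finite (Z.presheaf.stalk z) Ω[Z.presheaf.stalk z⁄K] ∧
      Module.finrank (Z.presheaf.stalk z) Ω[Z.presheaf.stalk z⁄K] = n := by
  have h1 := free_stalk g n U z hz
  rw [toStalk_eq] at h1
  exact h1

end K315.KaehlerStalk
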