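import Mathlib.RingTheory.Kaehler.Basic
import Mathlib.RingTheory.Unramified.Basic
import Mathlib.RingTheory.Unramified.Field
import Mathlib.RingTheory.LocalRing.Module
import Mathlib.LinearAlgebra.FreeModule.Finite.Basic

/-!
# Differentials of a discrete valuation ring with unramified residue field: `d s` generates
-/

set_option autoImplicit false

universe u

open IsLocalRing TensorProduct KaehlerDifferential

namespace K315.KaehlerUnif

/-- If the maximal ideal of the local `k`-algebra `A` is generated by `s` and the residue field has no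
`k`-differentials, then `d s` generates the (finite) module of differentials. -/
theorem span_D_eq_top (k A : Type u) [Field k] [CommRing A] [IsLocalRing A] [Algebra k A]
    [Module.Finite A Ω[A⁄k]] [Subsingleton Ω[ResidueField A⁄k]] (s : A)
    (hs : maximalIdeal A = Ideal.span {s}) :
    Submodule.span A {D k A s} = ⊤ := by
  rw [← IsLocalRing.map_tensorProduct_mk_eq_top]
  have hsurj : Function.Surjective (algebraMap A (ResidueField A)) := residue_surjective
  have hex := KaehlerDifferential.exact_kerCotangentToTensor_mapBaseChange k A (ResidueField A) hsurj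
  rw [eq_top_iff]
  intro z _
  obtain ⟨w, rfl⟩ := (hex z).1 (Subsingleton.elim _ _)
  have hker : RingHom.ker (algebraMap A (ResidueField A)) = maximalIdeal A := by
    ext a
    rw [RingHom.mem_ker]
    exact residue_eq_zero_iff a
  obtain ⟨⟨a, ha⟩, rfl⟩ := Ideal.toCotangent_surjective _ w
  rw [KaehlerDifferential.kerCotangentToTensor_toCotangent]
  have ha' : a ∈ Ideal.span {s} := by rw [← hs, ← hker]; exact ha
  obtain ⟨b, rfl⟩ := Ideal.mem_span_singleton'.1 ha'
  have hs0 : residue A s = 0 := by
    rw [residue_eq_zero_iff, hs]
    exact Ideal.mem_span_singleton_self s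
  have h1 : (1 : ResidueField A) ⊗ₜ[A] D k A (b * s) = (1 : ResidueField A) ⊗ₜ[A] (b • D k A s) := by
    rw [Derivation.leibniz, TensorProduct.tmul_add]
    have : (1 : ResidueField A) ⊗ₜ[A] (s • D k A b) = 0 := by
      rw [← TensorProduct.smul_tmul, Algebra.smul_def]
      have e : algebraMap A (ResidueField A) s = 0 := hs0
      rw [e, zero_mul, TensorProduct.zero_tmul]
    rw [this, add_zero]
  rw [h1]
  exact Submodule.mem_map_of_mem (f := TensorProduct.mk A (ResidueField A) (Ω[A⁄k]) 1)
    (Submodule.smul_mem _ b (Submodule.mem_span_singleton_self _))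

/-- If moreover the module of differentials is free of rank one, then `a ↦ a • d s` is bijective. -/
theorem bijective_smul_D (k A : Type u) [Field k] [CommRing A] [IsLocalRing A] [Algebra k A]
    [Module.Finite A Ω[A⁄k]] [Module.Free A Ω[A⁄k]] (hr : Module.finrank A Ω[A⁄k] = 1)
    [Subsingleton Ω[ResidueField A⁄k]] (s : A)
    (hs : maximalIdeal A = Ideal.span {s}) :
    Function.Bijective (fun a : A => a • D k A s) := by
  have h1 := span_D_eq_top k A s hs
  have hsurj : Function.Surjective (LinearMap.toSpanSingleton A Ω[A⁄k] (D k A s)) := by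
    rw [← LinearMap.range_eq_top, LinearMap.range_toSpanSingleton, h1]
  let e : Ω[A⁄k] ≃ₗ[A] A :=
    (LinearEquiv.ofFinrankEq Ω[A⁄k] A (by rw [hr, Module.finrank_self]))
  have h2 : Function.Surjective (e.toLinearMap ∘ₗ LinearMap.toSpanSingleton A Ω[A⁄k] (D k A s)) :=
    e.surjective.comp hsurj
  have h3 := OrzechProperty.injective_of_surjective_endomorphism _ h2
  have h4 : Function.Injective (LinearMap.toSpanSingleton A Ω[A⁄k] (D k A s)) := by
    intro a b hab
    apply h3
    rw [LinearMap.comp_apply, LinearMap.comp_apply, hab]
  exact ⟨h4, hsurj⟩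

/-- Variant with the separability of the residue field. -/
theorem bijective_smul_D_of_isSeparable (k A : Type u) [Field k] [CommRing A] [IsLocalRing A] [Algebra k A]
    [Module.Finite A Ω[A⁄k]] [Module.Free A Ω[A⁄k]] (hr : Module.finrank A Ω[A⁄k] = 1)
    (_ : Algebra.IsSeparable k (ResidueField A)) (s : A)
    (hs : maximalIdeal A = Ideal.span {s}) :
    Function.Bijective (fun a : A => a • D k A s) := by
  have hun : Algebra.FormallyUnramified k (ResidueField A) :=
    Algebra.FormallyUnramified.of_isSeparable _ _
  exact bijective_smul_D k A hr s hs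

end K315.KaehlerUnif
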