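import Groth.Agent.CurvesB.NodeCriterion
import Mathlib.AlgebraicGeometry.Morphisms.Etale

/-!
# Nodes under étale maps and under finite separable change of the base field
-/

set_option autoImplicit false

universe u

open CategoryTheory CategoryTheory.Limits AlgebraicGeometry IsLocalRing

namespace K315.NodeEtale

open Groth.Agent.CurvesB Groth.Agent.CurvesB.Node Groth.Agent.CurvesB.StalkSemilinear

variable {K L : Type u} [Field K] [Field L] {X Y : Scheme.{u}}

/-- The maps from the base fields to residue fields are compatible in a commutative square over `Spec σ`. -/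
theorem residueFieldMap_resMap (g : X ⟶ Y) (f : X ⟶ Spec (CommRingCat.of L))
    (h : Y ⟶ Spec (CommRingCat.of K)) (σ : K →+* L)
    (w : g ≫ h = f ≫ Spec.map (CommRingCat.ofHom σ)) (x : X) (c : K) :
    (g.residueFieldMap x).hom (@Curv2.resMap K _ Y ⟨h⟩ (g x) c) =
      @Curv2.resMap L _ X ⟨f⟩ x (σ c) := by
  have h1 := stalkMap_stMap g f h σ w x c
  have h2 : (g.residueFieldMap x).hom ((Y.residue (g x)).hom (stMap h (g x) c)) =
      (X.residue x).hom ((g.stalkMap x).hom (stMap h (g x) c)) :=
    congrArg (fun φ => φ.hom (stMap h (g x) c)) (Scheme.residue_residueFieldMap g x)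
  refine h2.trans ?_
  exact congrArg (X.residue x).hom h1

/-- étale maps: the maximal ideal is generated by the one downstairs. -/
theorem map_maximalIdeal_of_etale (f : X ⟶ Y) [Etale f] (x : X) :
    (maximalIdeal (Y.presheaf.stalk (f x))).map (f.stalkMap x).hom =
      maximalIdeal (X.presheaf.stalk x) := by
  algebraize [(f.stalkMap x).hom]
  have : IsLocalHom (algebraMap (Y.presheaf.stalk (f x)) (X.presheaf.stalk x)) :=
    inferInstanceAs <| IsLocalHom (f.stalkMap x).hom
  have : Algebra.EssFiniteType (Y.presheaf.stalk (f x)) (X.presheaf.stalk x) := by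
    rw [← RingHom.essFiniteType_algebraMap, RingHom.algebraMap_toAlgebra]
    exact LocallyOfFiniteType.stalkMap f x
  have : Algebra.FormallyUnramified (Y.presheaf.stalk (f x)) (X.presheaf.stalk x) := by
    rw [← RingHom.formallyUnramified_algebraMap, RingHom.algebraMap_toAlgebra]
    exact FormallyUnramified.stalkMap f x
  exact Algebra.FormallyUnramified.map_maximalIdeal

/-- Residue field extensions of unramified maps are finite. -/
theorem finite_residueFieldMap (f : X ⟶ Y) [FormallyUnramified f] [LocallyOfFiniteType f] (x : X) :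
    (f.residueFieldMap x).hom.Finite := by
  algebraize [(f.stalkMap x).hom]
  have : IsLocalHom (algebraMap (Y.presheaf.stalk (f x)) (X.presheaf.stalk x)) :=
    inferInstanceAs <| IsLocalHom (f.stalkMap x).hom
  have : Algebra.EssFiniteType (Y.presheaf.stalk (f x)) (X.presheaf.stalk x) := by
    rw [← RingHom.essFiniteType_algebraMap, RingHom.algebraMap_toAlgebra]
    exact LocallyOfFiniteType.stalkMap f x
  have : Algebra.FormallyUnramified (Y.presheaf.stalk (f x)) (X.presheaf.stalk x) := by
    rw [← RingHom.formallyUnramified_algebraMap, RingHom.algebraMap_toAlgebra]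
    exact FormallyUnramified.stalkMap f x
  have h : Module.Finite (ResidueField (Y.presheaf.stalk (f x))) (ResidueField (X.presheaf.stalk x)) :=
    inferInstance
  exact RingHom.finite_algebraMap.2 h

/-- Node-likeness along étale maps. -/
theorem nodeLike_iff_of_etale (π : Y ⟶ X) [Etale π] (y : Y) :
    NodeLike (X.presheaf.stalk (π y)) ↔ NodeLike (Y.presheaf.stalk y) := by
  algebraize [(π.stalkMap y).hom]
  have : IsLocalHom (algebraMap (X.presheaf.stalk (π y)) (Y.presheaf.stalk y)) :=
    inferInstanceAs <| IsLocalHom (π.stalkMap y).hom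
  have : Module.Flat (X.presheaf.stalk (π y)) (Y.presheaf.stalk y) := Flat.stalkMap π y
  exact nodeLike_iff_of_flat_of_isLocalHom (map_maximalIdeal_of_etale π y)

/-- Finite separable residue fields along étale maps. -/
theorem resFS_iff_of_etale (f : X ⟶ Spec (CommRingCat.of K)) (π : Y ⟶ X) [Etale π] (y : Y) :
    ResFS f (π y) ↔ ResFS (π ≫ f) y := by
  let _ := @Curv2.resAlgebra K _ X ⟨f⟩ (π y)
  let _ := @Curv2.resAlgebra K _ Y ⟨π ≫ f⟩ y
  let _ : Algebra (X.residueField (π y)) (Y.residueField y) := (π.residueFieldMap y).hom.toAlgebra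
  have hsep : Algebra.IsSeparable (X.residueField (π y)) (Y.residueField y) := inferInstance
  have hfin : Module.Finite (X.residueField (π y)) (Y.residueField y) := finite_residueFieldMap π y
  have : IsScalarTower K (X.residueField (π y)) (Y.residueField y) := by
    refine IsScalarTower.of_algebraMap_eq' ?_
    ext c
    have := residueFieldMap_resMap π (π ≫ f) f (RingHom.id K) (by simp) y c
    exact this.symm
  constructor
  · rintro ⟨h1, h2⟩
    have h1' : Module.Finite K (X.residueField (π y)) := h1
    have h2' : Algebra.IsSeparable K (X.residueField (π y)) := h2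
    exact ⟨Module.Finite.trans (X.residueField (π y)) _,
      Algebra.IsSeparable.trans K (X.residueField (π y)) _⟩
  · rintro ⟨h1, h2⟩
    have h1' : Module.Finite K (Y.residueField y) := h1
    have h2' : Algebra.IsSeparable K (Y.residueField y) := h2
    refine ⟨?_, Algebra.isSeparable_tower_bot_of_isSeparable K (X.residueField (π y)) (Y.residueField y)⟩
    exact FiniteDimensional.left K (X.residueField (π y)) (Y.residueField y)

theorem isNode_iff_of_etale (k : Type u) [Field k] (X : Scheme.{u}) [X.Over (Spec (CommRingCat.of k))]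
    [LocallyOfFiniteType (X ↘ (Spec (CommRingCat.of k)))]
    {Y : Scheme.{u}} (π : Y ⟶ X) [Etale π] (y : Y) :
    Curv2.IsNode k X (π y) ↔ @Curv2.IsNode k _ Y ⟨π ≫ (X ↘ (Spec (CommRingCat.of k)))⟩ y := by
  let _ : Y.Over (Spec (CommRingCat.of k)) := ⟨π ≫ (X ↘ (Spec (CommRingCat.of k)))⟩
  have : LocallyOfFiniteType (Y ↘ (Spec (CommRingCat.of k))) :=
    inferInstanceAs (LocallyOfFiniteType (π ≫ (X ↘ (Spec (CommRingCat.of k)))))
  rw [isNode_iff_resFS, isNode_iff_resFS k Y y]
  exact and_congr (resFS_iff_of_etale (X ↘ (Spec (CommRingCat.of k))) π y)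
    (nodeLike_iff_of_etale π y)

/-- Finite separable residue fields under finite separable change of the base field. -/
theorem resFS_iff_of_isSeparable [Algebra K L] [FiniteDimensional K L] [Algebra.IsSeparable K L]
    (f : X ⟶ Spec (CommRingCat.of L)) (x : X) :
    ResFS f x ↔ ResFS (f ≫ Spec.map (CommRingCat.ofHom (algebraMap K L))) x := by
  let _ := @Curv2.resAlgebra L _ X ⟨f⟩ x
  let _ := @Curv2.resAlgebra K _ X ⟨f ≫ Spec.map (CommRingCat.ofHom (algebraMap K L))⟩ x
  have : IsScalarTower K L (X.residueField x) := by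
    refine IsScalarTower.of_algebraMap_eq' ?_
    ext c
    have := residueFieldMap_resMap (𝟙 X) f (f ≫ Spec.map (CommRingCat.ofHom (algebraMap K L)))
      (algebraMap K L) (by simp) x c
    rw [Scheme.residueFieldMap_id] at this
    exact this
  constructor
  · rintro ⟨h1, h2⟩
    have h1' : Module.Finite L (X.residueField x) := h1
    have h2' : Algebra.IsSeparable L (X.residueField x) := h2
    exact ⟨Module.Finite.trans L _, Algebra.IsSeparable.trans K L _⟩
  · rintro ⟨h1, h2⟩
    have h1' : Module.Finite K (X.residueField x) := h1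
    have h2' : Algebra.IsSeparable K (X.residueField x) := h2
    exact ⟨Module.Finite.of_restrictScalars_finite K L (X.residueField x),
      Algebra.isSeparable_tower_top_of_isSeparable K L (X.residueField x)⟩

theorem isNode_iff_of_isSeparable (k : Type u) [Field k] (k' : Type u) [Field k'] [Algebra k k']
    [FiniteDimensional k k'] [Algebra.IsSeparable k k']
    (X : Scheme.{u}) [X.Over (Spec (CommRingCat.of k'))]
    [LocallyOfFiniteType (X ↘ (Spec (CommRingCat.of k')))] (x : X) :
    Curv2.IsNode k' X x ↔
      @Curv2.IsNode k _ X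
        ⟨(X ↘ (Spec (CommRingCat.of k'))) ≫ Spec.map (CommRingCat.ofHom (algebraMap k k'))⟩ x := by
  rw [isNode_iff_resFS k' X x]
  have hft : LocallyOfFiniteType (Spec.map (CommRingCat.ofHom (algebraMap k k'))) := by
    rw [HasRingHomProperty.Spec_iff (P := @LocallyOfFiniteType)]
    exact RingHom.finiteType_algebraMap.2 inferInstance
  have h1 := resFS_iff_of_isSeparable (K := k) (L := k') (X ↘ (Spec (CommRingCat.of k'))) x
  let ov : X.Over (Spec (CommRingCat.of k)) :=
    ⟨(X ↘ (Spec (CommRingCat.of k'))) ≫ Spec.map (CommRingCat.ofHom (algebraMap k k'))⟩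
  have : LocallyOfFiniteType (X ↘ (Spec (CommRingCat.of k))) :=
    inferInstanceAs (LocallyOfFiniteType
      ((X ↘ (Spec (CommRingCat.of k'))) ≫ Spec.map (CommRingCat.ofHom (algebraMap k k'))))
  rw [isNode_iff_resFS k X x]
  exact and_congr h1 Iff.rfl

end K315.NodeEtale
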