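import Groth.Agent.Dual.H342.HypField
import Groth.Agent.Dual.H342.NormSch
import Groth.Agent.Ega1.PtCrit2
import Groth.Agent.LoccohB.CMSch

/-!
# The dualizing module of an integral scheme has rank one
-/

set_option autoImplicit false

universe u

open CategoryTheory CategoryTheory.Limits AlgebraicGeometry TopologicalSpace Opposite

attribute [local instance] HasDerivedCategory.standard

namespace Groth.Agent.K315.OmegaRank

open Groth.Agent.Dual.H342 Groth.Agent.PerfA.CohDim Groth.Agent.LoccohB

/-- The localization of the cohomology of a dualizing complex at a prime whose local ring is a field is generated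
by one element. -/
theorem exists_generator (A : Type u) [CommRing A] [IsNoetherianRing A] (ω : Dual.D A)
    (hω : Dual.IsDualizing A ω) (p : PrimeSpectrum A) (hp : IsField (Localization.AtPrime p.asIdeal)) (i : ℤ) :
    ∃ e : LocalizedModule p.asIdeal.primeCompl (Dual.HD A ω i), ∀ m, ∃ a : Localization.AtPrime p.asIdeal,
      m = a • e := by
  have hL : DRing.HasLBaseChange (algebraMap A (Localization p.asIdeal.primeCompl)) :=
    LBC.hasLBaseChange _
  have h1 : Dual.IsDualizing (Localization p.asIdeal.primeCompl)
    ((DRing.LBaseChange (algebraMap A (Localization p.asIdeal.primeCompl))).obj ω) :=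
    S1775.result A p.asIdeal.primeCompl ω hω
  obtain ⟨d, hd, ⟨q⟩⟩ := Groth.Agent.Ega1.PtUniv.field_case (κ := Localization p.asIdeal.primeCompl) hp _ h1
  obtain ⟨c⟩ := CMSch.lbcHD_localization p.asIdeal.primeCompl ω i
  by_cases hi : i = d
  · subst hi
    let e := c.symm.trans q
    refine ⟨e.symm 1, fun m => ⟨e m, ?_⟩⟩
    apply e.injective
    change e m = e ((e m : Localization p.asIdeal.primeCompl) • e.symm 1)
    rw [map_smul, e.apply_symm_apply, smul_eq_mul, mul_one]
  · have := hd i hi
    have h2 : Subsingleton (LocalizedModule p.asIdeal.primeCompl (Dual.HD A ω i)) :=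
      c.symm.toEquiv.subsingleton
    exact ⟨0, fun m => ⟨0, h2.elim _ _⟩⟩

variable {X : Scheme.{u}} {K : DCoh.D X}

/-- The stalk of `F` at `x` is generated by one element. -/
def Gen (F : X.Modules) (x : X) : Prop :=
  ∃ e : F.presheaf.stalk x, ∀ m : F.presheaf.stalk x, ∃ a : X.presheaf.stalk x, m = a • e

/-- The generic stalk of a cohomology sheaf of a dualizing complex on an integral scheme is generated by one
element. -/
theorem gen [IsIntegral X] [CompactSpace X] (hK : Hyp K) (i : ℤ) : Gen (DCoh.HD K i) (genericPoint X) := by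
  obtain ⟨z, hz, hxz⟩ := Groth.Agent.PerfA.TopDim.exists_closed_specializes (genericPoint X)
  obtain ⟨c⟩ := PtChart.nonempty_chart hK z hz
  obtain ⟨p, hpy, hpx⟩ := c.exists_prime (genericPoint X) hxz
  obtain ⟨σ, τ, h⟩ := c.exists_semilinear i p
  have hf : IsField (X.presheaf.stalk (c.pt p)) := by
    rw [hpx]
    exact Field.toIsField X.functionField
  have hfield : IsField (Localization.AtPrime p.asIdeal) := MulEquiv.isField hf σ.toMulEquiv
  obtain ⟨e, he⟩ := exists_generator c.A c.ω c.dual p hfield i
  have key : Gen (DCoh.HD K i) (c.pt p) := by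
    refine ⟨τ e, fun m => ?_⟩
    obtain ⟨m, rfl⟩ := τ.surjective m
    obtain ⟨a, ha⟩ := he m
    exact ⟨σ a, by rw [← h, ← ha]⟩
  rwa [hpx] at key

/-- The generic stalk of a cohomology sheaf of a dualizing complex on an integral scheme is generated by one
element. -/
theorem exists_generator_stalk [IsIntegral X] [CompactSpace X] (hK : Hyp K) (i : ℤ) :
    ∃ e : (DCoh.HD K i).presheaf.stalk (genericPoint X), ∀ m : (DCoh.HD K i).presheaf.stalk (genericPoint X),
      ∃ a : X.presheaf.stalk (genericPoint X), m = a • e :=
  gen hK i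

end Groth.Agent.K315.OmegaRank
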