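import Groth.Agent.S0115
import Groth.Agent.S0220
import Groth.Agent.S0219
import Groth.Agent.S0223
import Groth.Agent.CalgB.ProjField
import Groth.Agent.CurvesC.RegNormal
import Groth.Prelude.Def_CurvBase

/-!
# Curves dominated by a smooth curve through a purely inseparable morphism
-/

set_option autoImplicit false
universe u
open CategoryTheory CategoryTheory.Limits AlgebraicGeometry

namespace K315.PurInsGenus

variable {k : Type u} [Field k] {X Y : Scheme.{u}}

theorem nontrivial_of_dim (hdY : topologicalKrullDim Y = 1) : Nontrivial Y := by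
  by_contra h
  rw [not_nontrivial_iff_subsingleton] at h
  have h1 : DiscreteTopology Y := Subsingleton.discreteTopology
  have h0 : topologicalKrullDim Y ≤ 0 := topologicalKrullDim_zero_of_discreteTopology Y
  rw [hdY] at h0
  exact absurd h0 (by decide)

/-- A proper dominant morphism is surjective. -/
theorem surjective_of_genericPoint [IsIntegral X] [IsIntegral Y] (f : X ⟶ Y) [IsProper f]
    (e : f (genericPoint X) = genericPoint Y) : Surjective f := by
  refine ⟨fun y => ?_⟩
  have h1 : IsClosed (Set.range f) := f.isClosedMap.isClosed_range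
  have h2 : closure {genericPoint Y} ⊆ Set.range f :=
    closure_minimal (Set.singleton_subset_iff.2 ⟨_, e⟩) h1
  have h3 : closure {genericPoint Y} = (Set.univ : Set Y) := genericPoint_spec Y
  exact h2 (h3 ▸ Set.mem_univ y)

theorem isFinite_of_surjective [IsIntegral X] (p : X ⟶ Spec (CommRingCat.of k)) (q : Y ⟶ Spec (CommRingCat.of k))
    [IsProper p] [IsSeparated q] (f : X ⟶ Y) (hf : f ≫ q = p) (hdX : topologicalKrullDim X = 1)
    (hdY : topologicalKrullDim Y = 1) [Surjective f] : IsFinite f := by
  refine Groth.Agent.S0219.result k X Y p q f hf hdX.le fun Z hZ _ => ?_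
  have hZ' : Z = Set.univ := by
    rw [irreducibleComponents_eq_singleton] at hZ
    exact hZ
  have hnt := nontrivial_of_dim hdY
  rw [hZ', Set.image_univ, Set.range_eq_univ.2 f.surjective]
  exact Set.nontrivial_univ

theorem isNormalScheme_of_regular (h : ∀ x : X, IsRegularLocalRing (X.presheaf.stalk x)) :
    Pi1.IsNormalScheme X := by
  intro x
  have := h x
  exact ⟨Groth.Agent.CurvesC.RegNormal.isDomain _, Groth.Agent.CurvesC.RegNormal.isIntegrallyClosed _⟩

/-- Y is smooth if dominated by a smooth curve. -/
theorem smooth_of_surjective [IsIntegral X] [IsIntegral Y] (p : X ⟶ Spec (CommRingCat.of k))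
    (q : Y ⟶ Spec (CommRingCat.of k)) [IsSeparated p] [LocallyOfFiniteType p] [QuasiCompact p]
    [IsSeparated q] [LocallyOfFiniteType q] [QuasiCompact q] [Smooth p] (f : X ⟶ Y) (hf : f ≫ q = p)
    (hdX : topologicalKrullDim X = 1) (hdY : topologicalKrullDim Y = 1) [Surjective f]
    (hY : Pi1.IsNormalScheme Y) : Smooth q := by
  have hnt : (Set.range f.base).Nontrivial := by
    have hs : Set.range f.base = Set.univ := Set.range_eq_univ.2 f.surjective
    have := nontrivial_of_dim hdY
    rw [hs]
    exact Set.nontrivial_univ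
  have hfl : Flat f := Groth.Agent.S0220.result k X Y p q hdX hdY (fun y => hY y) f hf hnt
  have hsm : Smooth (f ≫ q) := by rw [hf]; infer_instance
  have hlfp : LocallyOfFinitePresentation q := inferInstance
  exact Groth.Agent.S0115.smooth_of_comp_field k f q

/-- The genus of a Frobenius twist. -/
theorem genus_of_isPullback [X.Over (Spec (CommRingCat.of k))] [IsProper (X ↘ Spec (CommRingCat.of k))]
    [Y.Over (Spec (CommRingCat.of k))]
    (hdim : topologicalKrullDim X = 1) (h0 : Module.finrank k (Coh.HH X (Coh.structureModule X) 0) = 1)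
    (σ : k →+* k) (g : Y ⟶ X)
    (hpb : IsPullback g (Y ↘ Spec (CommRingCat.of k)) (X ↘ Spec (CommRingCat.of k))
      (Spec.map (CommRingCat.ofHom σ))) :
    Module.finrank k (Coh.HH Y (Coh.structureModule Y) 0) = 1 ∧
      Module.finrank k (Coh.HH Y (Coh.structureModule Y) 1) =
        Module.finrank k (Coh.HH X (Coh.structureModule X) 1) :=
  @Groth.Agent.S0223.result k _ X _ _ hdim h0 k _ σ.toAlgebra Y _ g hpb

end K315.PurInsGenus
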